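import Cfsg.Agent.Lib.ConjFun.Engel
import Cfsg.Agent.Lib.ConjFun.Sections

/-!
# The family of all characteristic `p`-functors

* `charFamily p`, `spread K`: every nontrivial characteristic subgroup of a group is a value of the family
* `no_normal_char`: in a failure of transfer control no nontrivial characteristic subgroup of `S` is normal
* `Failure`: a chief factor at which transfer control fails, with what is needed to refute it
* `exists_failure`
-/

set_option autoImplicit false

namespace Cfsg.Agent.PFocal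

open Subgroup
open scoped commutatorElement

universe u

variable {p : ℕ}

/-- All characteristic `p`-functors. -/
def charFamily (p : ℕ) : Set (∀ (Q : Type u) [Group Q], Subgroup Q) :=
  {W | Cfsg.IsCharPFunctor.{u} p W}

open Classical in
/-- The functor with value `K` at `S₀`, and `⊤` at the groups that are not isomorphic to `S₀`. -/
noncomputable def spread {S₀ : Type u} [Group S₀] (K : Subgroup S₀) :
    ∀ (Q : Type u) [Group Q], Subgroup Q := fun Q _ =>
  if h : Nonempty (S₀ ≃* Q) then K.map h.some.toMonoidHom else ⊤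

theorem spread_self {S₀ : Type u} [Group S₀] {K : Subgroup S₀} (hK : K.Characteristic) :
    spread K S₀ = K := by
  have h : Nonempty (S₀ ≃* S₀) := ⟨MulEquiv.refl _⟩
  simp only [spread, dif_pos h]
  exact characteristic_iff_map_eq.mp hK _

theorem spread_mem {S₀ : Type u} [Group S₀] {K : Subgroup S₀} (hK : K.Characteristic) (hne : K ≠ ⊥) :
    spread K ∈ charFamily.{u} p := by
  refine ⟨fun Q _ _ _ hQ => ?_, fun Q R _ _ _ _ φ => ?_⟩
  · unfold spread
    split_ifs with h
    · rw [Ne, map_eq_bot_iff_of_injective _ h.some.injective]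
      exact hne
    · exact top_ne_bot
  · unfold spread
    by_cases h : Nonempty (S₀ ≃* Q)
    · have h' : Nonempty (S₀ ≃* R) := ⟨h.some.trans φ⟩
      rw [dif_pos h, dif_pos h', map_map]
      have hc := characteristic_iff_map_eq.mp hK ((h.some.trans φ).trans h'.some.symm)
      conv_rhs => rw [← hc, map_map]
      congr 1
      ext x
      simp
    · have h' : ¬ Nonempty (S₀ ≃* R) := fun ⟨e⟩ => h ⟨e.trans φ.symm⟩
      rw [dif_neg h, dif_neg h', map_top_of_surjective _ φ.surjective]

variable [Fact p.Prime] {X : Type u} [Group X] [Finite X] (S : Sylow p X)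

/-- No nontrivial characteristic subgroup of `S` is normal where transfer control fails. -/
theorem no_normal_char
    (hfail : ¬ Cfsg.pCore p X ⊓ commutator X ≤
      ConjFun.transferGen (ConjFun.inducedFamily (charFamily p) X) (S : Subgroup X))
    (K : Subgroup ↥(S : Subgroup X)) (hne : K ≠ ⊥) (hK : K.Characteristic) :
    ¬ (K.map (S : Subgroup X).subtype).Normal := fun hn => hfail <| by
  refine ConjFun.pCore_inf_commutator_le_of_normal (𝓦 := charFamily.{u} p) (fun W hW => hW)
    (spread_mem hK hne) S ?_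
  show ((spread K ↥(S : Subgroup X)).map (S : Subgroup X).subtype).Normal
  rwa [spread_self hK]

/-- A chief factor `U / V` at which transfer control fails, seen from `X`. -/
structure Failure (S : Sylow p X) (M U V : Subgroup X) : Prop where
  cent : centralizer (Cfsg.pCore p X : Set X) ≤ Cfsg.pCore p X
  ne_top : M ≠ ⊤
  SM : (S : Subgroup X) ≤ M
  max : ∀ H : Subgroup X, (S : Subgroup X) ≤ H → H ≠ ⊤ → H ≤ M
  norm : normalizer ((S : Subgroup X) : Set X) ≤ M
  hd : ∀ K : Subgroup ↥(S : Subgroup X), K ≠ ⊥ → K.Characteristic →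
    ¬ (K.map (S : Subgroup X).subtype).Normal
  chief : Cfsg.IsChiefFactor U V
  le_pCore : U ≤ Cfsg.pCore p X
  cent_factor : ∀ N : Subgroup X, N.Normal → N ≤ M → ⁅U, N⁆ ≤ V
  no_engel : ∀ u ∈ (S : Subgroup X), u ∉ Cfsg.pCore p X →
    ¬ Cfsg.iterCommutator U (zpowers u) (p - 1) ≤ V

/-- A failure of transfer control gives such a chief factor. -/
theorem exists_failure (hcent : centralizer (Cfsg.pCore p X : Set X) ≤ Cfsg.pCore p X)
    (IH : ∀ (Y : Type u) [Group Y], Cfsg.Involves Y X → Nat.card Y < Nat.card X →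
      ConjFun.Controls p (charFamily p) Y)
    (hfail : ¬ Cfsg.pCore p X ⊓ commutator X ≤
      ConjFun.transferGen (ConjFun.inducedFamily (charFamily p) X) (S : Subgroup X)) :
    ∃ M U V : Subgroup X, Failure S M U V := by
  have h𝓦 : ∀ W ∈ charFamily.{u} p, Cfsg.IsCharPFunctor.{u} p W := fun W hW => hW
  have hne : (charFamily.{u} p).Nonempty := by
    refine ⟨_, spread_mem (K := (⊤ : Subgroup ↥(S : Subgroup X))) inferInstance fun h => hfail ?_⟩
    have hS : (S : Subgroup X) = ⊥ := by
      rw [← range_subtype (S : Subgroup X), MonoidHom.range_eq_map, h, Subgroup.map_bot]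
    exact (inf_le_left.trans (PCore.pCore_le_sylow S)).trans (hS.le.trans bot_le)
  obtain ⟨hMtop, hmax, hQM, hMD, hNSM, -⟩ := ConjFun.failure_structure h𝓦 hne IH S hfail
  obtain ⟨U, V, hUV, hUQ, hVD, hUD⟩ :=
    ConjFun.exists_chief_below (Cfsg.pCore p X ⊓ commutator X) _ hfail
  refine ⟨_, U, V, hcent, hMtop, Subgroup.le_normalizer.trans hNSM, hmax, hNSM,
    no_normal_char S hfail, hUV, hUQ.trans inf_le_left, fun N hN hNM => ?_, fun u hu hu' =>
      ConjFun.not_engel_factor h𝓦 hne IH S hfail hUV hUQ hVD hUD hu hu'⟩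
  have := hUV.2.1
  have := hUV.2.2.1
  have hUN : ⁅U, N⁆ ≤ U := Subgroup.commutator_le_left U N
  have hUND : ⁅U, N⁆ ≤ ConjFun.transferGen (ConjFun.inducedFamily (charFamily p) X) (S : Subgroup X) :=
    (((Subgroup.commutator_mono (hUQ.trans inf_le_left) hNM).trans hQM).trans hMD).trans inf_le_right
  rcases hUV.2.2.2 (⁅U, N⁆ ⊔ V) inferInstance le_sup_right (sup_le hUN hUV.1.le) with h | h
  · exact le_sup_left.trans h.le
  · exact absurd (h.ge.trans (sup_le hUND hVD)) hUD

end Cfsg.Agent.PFocal
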