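import Cfsg.Agent.Lib.PushingUp.Baumann
import Cfsg.Prelude.Def_LocalStructure

/-!
# Baumann's lemma for the elementary Thompson subgroup in rank one

For `h : Hyp p S M` with `C(V) ≤ M` and `J(S) ≰ O_p(G)`, `J` generated by the elementary abelian subgroups
of largest order, `B(S) = C_S(Ω₁(Z(J(S))))` is Sylow in its normal closure.

* `baumann_sylow`
-/

set_option autoImplicit false

namespace Cfsg.Agent.PFocal

open Subgroup PushingUp
open scoped commutatorElement

universe u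

variable {G : Type u} [Group G] {p : ℕ}

/-- `Ω₁(Z(J(S)))`. -/
abbrev wJ (p : ℕ) (S : Subgroup G) : Subgroup G := omegaOne p (centerThompsonOf p S)

theorem wJ_le_thompson (S : Subgroup G) : wJ p S ≤ thompsonSubgroupOf p S :=
  (PGroup.omegaOne_le _).trans inf_le_left

theorem thompson_le_centralizer_wJ (S : Subgroup G) :
    thompsonSubgroupOf p S ≤ centralizer (wJ p S : Set G) :=
  le_centralizer_iff.mp ((PGroup.omegaOne_le _).trans inf_le_right)

theorem wJ_le_of_isMaxEA [Finite G] {S A : Subgroup G} (hA : PGroup.IsMaxEA p S A) : wJ p S ≤ A :=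
  (PGroup.omegaOne_mono (le_inf (inf_le_left.trans (PGroup.thompsonSubgroupOf_le _))
    (inf_le_right.trans (centralizer_le (PGroup.le_thompsonSubgroupOf hA))))).trans
    (PGroup.omegaOne_centralizer_le_of_isMaxEA hA)

theorem mem_wJ_of_central [Finite G] {S : Subgroup G} {z : G} (hz : z ∈ S)
    (hc : ∀ s ∈ S, s * z = z * s) (hp : z ^ p = 1) : z ∈ wJ p S := by
  obtain ⟨A, hA⟩ := PGroup.exists_isMaxEA (p := p) S
  exact PGroup.mem_omegaOne_of_pow_eq_one ⟨PGroup.le_thompsonSubgroupOf hA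
    (PGroup.omegaOne_centralizer_le_of_isMaxEA hA (PGroup.mem_omegaOne_of_pow_eq_one
      ⟨hz, fun a ha => hc a (hA.1 ha)⟩ hp)),
    fun a ha => hc a (PGroup.thompsonSubgroupOf_le _ ha)⟩ hp

theorem normalizer_le_normalizer_wJ (S : Subgroup G) :
    normalizer (S : Set G) ≤ normalizer (wJ p S : Set G) := fun g hg => by
  refine PGroup.mem_normalizer_of_map_conj_eq ?_
  have e := PGroup.map_conj_eq_of_mem_normalizer
    (PGroup.normalizer_le_normalizer_thompsonOf (p := p) S hg)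
  show (omegaOne p _).map _ = omegaOne p _
  rw [PGroup.map_omegaOne_of_injective (MulAut.conj g).injective]
  show omegaOne p ((thompsonSubgroupOf p S ⊓ centralizer (thompsonSubgroupOf p S : Set G)).map _) = _
  rw [Subgroup.map_inf _ _ _ (MulAut.conj g).injective, Offender.map_centralizer_equiv, e]
  rfl

variable [Finite G] [Fact p.Prime] {S : Sylow p G} {M : Subgroup G}

/-- `B(S)` is Sylow in its normal closure. -/
theorem baumann_sylow (h : Hyp p S M) (hV : centralizer (vQ p G : Set G) ≤ M)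
    (hJ : ¬ thompsonSubgroupOf p (S : Subgroup G) ≤ pCore p G) {T : Subgroup G}
    (hT : baumannSubgroupOf p (S : Subgroup G) = T) :
    ∃ P : Sylow p ↥(normalClosure (T : Set G)),
      (P : Subgroup ↥(normalClosure (T : Set G))) = T.subgroupOf (normalClosure (T : Set G)) := by
  set J := thompsonSubgroupOf p (S : Subgroup G)
  set W := wJ p (S : Subgroup G)
  set Q := pCore p G
  set V := vQ p G
  have hQS : Q ≤ (S : Subgroup G) := PCore.pCore_le_sylow S
  have hVS : V ≤ (S : Subgroup G) := h.vQ_le_sylow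
  have hQV : Q ≤ centralizer (V : Set G) := Hyp.pCore_le_centralizer_vQ
  have hinf : ∀ {A : Subgroup G}, A ≤ (S : Subgroup G) →
      A ⊓ centralizer (V : Set G) = A ⊓ Q := fun {A} hA => by
    rw [← inf_eq_left.mpr hA, inf_assoc, h.inf_centralizer_vQ hV, inf_assoc, inf_eq_right.mpr hQS]
  have hA'el : ∀ {A : Subgroup G}, IsElementaryAbelian p A → IsElementaryAbelian p ((A ⊓ Q) ⊔ V) :=
    fun {A} hA => PGroup.isElementaryAbelian_sup (PGroup.isElementaryAbelian_mono hA inf_le_left)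
      h.isElementaryAbelian_vQ fun a ha v hv => (hQV ha.2 v hv).symm
  have hA'Q : ∀ {A : Subgroup G}, (A ⊓ Q) ⊔ V ≤ Q := fun {_} => sup_le inf_le_right h.vQ_le_pCore
  have hoff : ∀ {A : Subgroup G}, PGroup.IsMaxEA p (S : Subgroup G) A →
      Nat.card ↥V * Nat.card ↥(A ⊓ Q) ≤ Nat.card ↥A * Nat.card ↥(V ⊓ centralizer (A : Set G)) := by
    intro A hA
    have hle := hA.2.2 _ (hA'Q.trans hQS) (hA'el hA.2.1)
    have hc := PGV.card_inf_mul_card_sup (hA'el hA.2.1).1 (le_sup_left : A ⊓ Q ≤ _) (le_sup_right : V ≤ _)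
    rw [mul_comm, ← hc]
    exact Nat.mul_le_mul hle (card_le_of_le (fun x hx =>
      ⟨hx.2, PGroup.le_centralizer_of_isMulCommutative hA.2.1.1 hx.1.1⟩))
  obtain ⟨A₁, hA₁, hne⟩ : ∃ A, PGroup.IsMaxEA p (S : Subgroup G) A ∧ ¬ A ≤ Q := by
    by_contra hc
    push Not at hc
    exact hJ (by rw [show J = _ from PGroup.thompsonSubgroupOf_eq _]; exact sSup_le hc)
  have hact : Act p S M V := by
    have hQ := h.inf_centralizer_vQ hV
    exact ⟨h.isElementaryAbelian_vQ, h.ne_top, h.SM, fun x hx => h.gen hx, hV,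
      fun a ha b hb => hQV (h.comm a ha b hb), fun a ha => hQV (h.pow a ha),
      by rw [hQ]; exact h.irred,
      fun s hs hc => hQV (h.inf_le_pCore (normalCore_le M) ⟨hs, hc⟩),
      A₁, hA₁.1, fun hc => hne fun a ha => hQ.le ⟨hA₁.1 ha, hc ha⟩, by
        rw [hinf hA₁.1]; exact hoff hA₁⟩
  have hrepl : ∀ {A : Subgroup G}, PGroup.IsMaxEA p (S : Subgroup G) A →
      PGroup.IsMaxEA p (S : Subgroup G) ((A ⊓ Q) ⊔ V) := by
    intro A hA
    refine ⟨hA'Q.trans hQS, hA'el hA.2.1, fun B hB hBe => (hA.2.2 B hB hBe).trans ?_⟩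
    have hc := PGV.card_inf_mul_card_sup (hA'el hA.2.1).1 (le_sup_left : A ⊓ Q ≤ _) (le_sup_right : V ≤ _)
    refine Nat.le_of_mul_le_mul_right ?_ (Nat.card_pos (α := ↥((A ⊓ Q) ⊓ V)))
    rw [hc, mul_comm (Nat.card ↥(A ⊓ Q))]
    refine le_trans (Nat.mul_le_mul_left _ (card_le_of_le ?_)) ((hact.card_le hA.1).trans
      (Nat.mul_le_mul_left _ (hinf hA.1 ▸ le_rfl)))
    exact fun x hx => ⟨hx.2, PGroup.le_centralizer_of_isMulCommutative hA.2.1.1 hx.1.1⟩
  have hmaxQ : ∀ {B : Subgroup G}, PGroup.IsMaxEA p Q B → PGroup.IsMaxEA p (S : Subgroup G) B := fun hB =>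
    ⟨hB.1.trans hQS, hB.2.1, fun C hC hCe => ((hrepl hA₁).2.2 C hC hCe).trans
      (hB.2.2 _ hA'Q (hrepl hA₁).2.1)⟩
  have hWQ : W ≤ Q := (wJ_le_of_isMaxEA (hrepl hA₁)).trans hA'Q
  set U := wJ p Q
  have hJQJ : thompsonSubgroupOf p Q ≤ J := by
    rw [PGroup.thompsonSubgroupOf_eq Q]
    exact sSup_le fun B hB => PGroup.le_thompsonSubgroupOf (hmaxQ hB)
  obtain ⟨B₀, hB₀⟩ := PGroup.exists_isMaxEA (p := p) Q
  have hVU : V ≤ U := fun v hv => mem_wJ_of_central (h.vQ_le_pCore hv)
    (fun q hq => (hQV hq v hv).symm) (h.isElementaryAbelian_vQ.2 v hv)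
  have hWU : W ≤ U := PGroup.omegaOne_le_iff.mpr fun w hw hwp => PGroup.mem_omegaOne_of_pow_eq_one
    ⟨PGroup.le_thompsonSubgroupOf hB₀ (PGroup.omegaOne_centralizer_le_of_isMaxEA hB₀
      (PGroup.mem_omegaOne_of_pow_eq_one
        ⟨hWQ (PGroup.mem_omegaOne_of_pow_eq_one hw hwp), fun a ha => hw.2 a
          (PGroup.le_thompsonSubgroupOf (hmaxQ hB₀) ha)⟩ hwp)),
      fun j hj => hw.2 j (hJQJ hj)⟩ hwp
  have hUc : IsMulCommutative ↥U := by
    have hU0 : IsMulCommutative ↥(centerThompsonOf p Q) :=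
      PGroup.isMulCommutative_of_forall fun a ha b hb => hb.2 a ha.1
    exact (PGroup.isElementaryAbelian_omegaOne hU0).1
  have hUn : ∀ g : G, ∀ u ∈ U, g * u * g⁻¹ ∈ U := fun g u hu =>
    (mem_normalizer_iff.mp (normalizer_le_normalizer_wJ Q
      ((normalizer_eq_top_iff.mpr PCore.pCore_normal).ge (mem_top g))) u).mp hu
  have hUA : ∀ {A : Subgroup G}, PGroup.IsMaxEA p (S : Subgroup G) A → U ≤ (A ⊓ Q) ⊔ V := fun hA =>
    wJ_le_of_isMaxEA (show PGroup.IsMaxEA p Q _ from ⟨hA'Q, (hrepl hA).2.1,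
      fun C hC hCe => (hrepl hA).2.2 C (hC.trans hQS) hCe⟩)
  have hnorm : ∀ {A : Subgroup G}, PGroup.IsMaxEA p (S : Subgroup G) A → ∀ g : G, ∀ a ∈ A,
      ∀ u ∈ U, ⁅g * a * g⁻¹, u⁆ ∈ V := by
    intro A hA g a ha u hu
    obtain ⟨c, hc, v, hv, e⟩ := (Coprime.mem_sup_iff_of_le_normalizer (H := A ⊓ Q) (N := V)
      (le_top.trans (normalizer_eq_top_iff.mpr vQ_normal).ge)).mp (hUA hA (hUn g⁻¹ u hu))
    have h1 : a * c = c * a := Offender.commute_mem hA.2.1.1 ha hc.1
    rw [show u = g * (c * v) * g⁻¹ by rw [e]; group,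
      show ⁅g * a * g⁻¹, g * (c * v) * g⁻¹⁆ = g * (c * (a * v * a⁻¹ * v⁻¹) * c⁻¹) * g⁻¹ by
        rw [commutatorElement_def]
        calc g * a * g⁻¹ * (g * (c * v) * g⁻¹) * (g * a * g⁻¹)⁻¹ * (g * (c * v) * g⁻¹)⁻¹
            = g * ((a * c) * v * a⁻¹ * v⁻¹ * c⁻¹) * g⁻¹ := by group
          _ = _ := by rw [h1]; group]
    exact vQ_normal.conj_mem _ (vQ_normal.conj_mem _
      (mul_mem (vQ_normal.conj_mem v hv a) (inv_mem hv)) c) g
  have hSJ : normalizer ((S : Subgroup G) : Set G) ≤ normalizer (J : Set G) :=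
    PGroup.normalizer_le_normalizer_thompsonOf _
  have hSW : (S : Subgroup G) ≤ normalizer (W : Set G) := fun s hs =>
    normalizer_le_normalizer_wJ _ (Subgroup.le_normalizer hs)
  have hsup : J ⊔ Q = (S : Subgroup G) := by
    refine (h.irred (J ⊔ Q) le_sup_right (sup_le (PGroup.thompsonSubgroupOf_le _) hQS) ?_).resolve_left
      fun e => hJ (le_sup_left.trans e.le)
    intro g hg
    refine PGroup.mem_normalizer_of_map_conj_eq ?_
    rw [Subgroup.map_sup, PGroup.map_conj_eq_of_mem_normalizer (hSJ hg),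
      PGroup.map_conj_eq_of_mem_normalizer ((normalizer_eq_top_iff.mpr PCore.pCore_normal).ge (mem_top g))]
  obtain ⟨x, hx⟩ := h.exists_not_mem
  have hgen : J ⊔ J.map (MulAut.conj x).toMonoidHom ⊔ Q = ⊤ := by
    refine top_le_iff.mp ((h.gen hx).ge.trans (sup_le ?_ ?_))
    · exact hsup.ge.trans (sup_le (le_sup_left.trans le_sup_left) le_sup_right)
    · rw [← hsup, Subgroup.map_sup,
        PGroup.map_conj_eq_of_mem_normalizer ((normalizer_eq_top_iff.mpr PCore.pCore_normal).ge (mem_top x))]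
      exact sup_le (le_sup_right.trans le_sup_left) le_sup_right
  have hU' : V ⊔ W ≤ U := sup_le hVU hWU
  have hVW : (V ⊔ W).Normal := by
    refine normalizer_eq_top_iff.mp (top_le_iff.mp ?_)
    have key : ∀ g : G, J.map (MulAut.conj g).toMonoidHom ≤ normalizer ((V ⊔ W : Subgroup G) : Set G) := by
      intro g
      rw [show J = _ from PGroup.thompsonSubgroupOf_eq _, map_le_iff_le_comap]
      refine sSup_le fun A hA a ha => ?_
      refine PGroup.mem_normalizer_of_map_conj_eq (eq_of_le_of_card_ge ?_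
        (card_map_of_injective (MulAut.conj _).injective).ge)
      rintro _ ⟨u, hu, rfl⟩
      show g * a * g⁻¹ * u * (g * a * g⁻¹)⁻¹ ∈ V ⊔ W
      have := mul_mem (mem_sup_left (T := W) (hnorm hA g a ha u (hU' hu))) hu
      rwa [commutatorElement_def, inv_mul_cancel_right] at this
    have hS : (S : Subgroup G) ≤ normalizer ((V ⊔ W : Subgroup G) : Set G) := fun s hs =>
      PGroup.mem_normalizer_of_map_conj_eq (by
        rw [Subgroup.map_sup, PGroup.map_conj_eq_of_mem_normalizer (hSW hs),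
          PGroup.map_conj_eq_of_mem_normalizer ((normalizer_eq_top_iff.mpr vQ_normal).ge (mem_top s))])
    exact hgen.ge.trans (sup_le (sup_le ((PGroup.thompsonSubgroupOf_le _).trans hS) (key x))
      (hQS.trans hS))
  have hD : Q ⊓ centralizer (W : Set G) = Q ⊓ centralizer ((V ⊔ W : Subgroup G) : Set G) := by
    rw [Offender.centralizer_sup_eq, ← inf_assoc, inf_eq_left.mpr hQV]
  have hDn : (Q ⊓ centralizer (W : Set G)).Normal := hD ▸ inferInstance
  set P := J ⊔ J.map (MulAut.conj x).toMonoidHom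
  set N := P ⊔ (Q ⊓ centralizer (W : Set G))
  have hQP : Q ≤ normalizer (P : Set G) := fun q hq => by
    have hq1 := hSJ (Subgroup.le_normalizer (hQS hq))
    have hq2 := hSJ (Subgroup.le_normalizer (hQS (PCore.pCore_normal.conj_mem q hq x⁻¹)))
    have e : (J.map (MulAut.conj x).toMonoidHom).map (MulAut.conj q).toMonoidHom =
        (J.map (MulAut.conj (x⁻¹ * q * x⁻¹⁻¹)).toMonoidHom).map (MulAut.conj x).toMonoidHom := by
      rw [map_map, map_map]
      congr 1
      exact MonoidHom.ext fun g => by simp [mul_assoc]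
    refine PGroup.mem_normalizer_of_map_conj_eq ?_
    rw [Subgroup.map_sup, PGroup.map_conj_eq_of_mem_normalizer hq1, e,
      PGroup.map_conj_eq_of_mem_normalizer hq2]
  have hNn : N.Normal := by
    refine normalizer_eq_top_iff.mp (top_le_iff.mp (hgen.ge.trans (sup_le ?_ ?_)))
    · exact le_sup_left.trans Subgroup.le_normalizer
    · intro q hq
      refine PGroup.mem_normalizer_of_map_conj_eq ?_
      rw [Subgroup.map_sup, PGroup.map_conj_eq_of_mem_normalizer (hQP hq),
        PGroup.map_conj_eq_of_mem_normalizer ((normalizer_eq_top_iff.mpr hDn).ge (mem_top q))]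
  have hJW : J ≤ centralizer (W : Set G) := thompson_le_centralizer_wJ _
  subst hT
  refine exists_sylow_normalClosure S (T := (S : Subgroup G) ⊓ centralizer (W : Set G)) (N := N)
    (le_antisymm (fun k hk => mem_inf.mpr ⟨hk.1, ?_⟩) fun k hk => mem_inf.mpr ⟨hk.1, ?_⟩)
  · obtain ⟨j, hj, q, hq, rfl⟩ := (Coprime.mem_sup_iff_of_le_normalizer
      (le_top.trans (normalizer_eq_top_iff.mpr PCore.pCore_normal).ge)).mp (hsup.ge hk.1)
    refine mul_mem (hJW hj) ?_
    have hqN : q ∈ N := by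
      have := mul_mem (inv_mem (mem_sup_left (mem_sup_left hj) : j ∈ N)) hk.2
      rwa [inv_mul_cancel_left] at this
    obtain ⟨y, hy, d, hd, rfl⟩ := (Coprime.mem_sup_iff_of_le_normalizer (H := P)
      (le_top.trans (normalizer_eq_top_iff.mpr hDn).ge)).mp hqN
    refine mul_mem (fun w hw => ?_) hd.2
    have hyQ : y ∈ Q := by
      have := mul_mem hq (inv_mem hd.1)
      rwa [mul_inv_cancel_right] at this
    obtain ⟨v, hv, w', hw', e⟩ := (Coprime.mem_sup_iff_of_le_normalizer (H := V) (N := W)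
      (hVS.trans hSW)).mp (hVW.conj_mem w (mem_sup_right hw) x⁻¹)
    have hv' : x * v * x⁻¹ ∈ V := vQ_normal.conj_mem v hv x
    obtain ⟨a, ha, b, hb, eab⟩ := hact.split hx hv'
    have haW : a ∈ W := mem_wJ_of_central (hVS ha.1) (fun s hs => ha.2 s hs)
      (h.isElementaryAbelian_vQ.2 a ha.1)
    have hbV : x⁻¹ * b * x ∈ V := by simpa using vQ_normal.conj_mem b hb.1 x⁻¹
    have hbW : x⁻¹ * b * x ∈ W := by
      refine mem_wJ_of_central (hVS hbV) (fun s hs => ?_) (h.isElementaryAbelian_vQ.2 _ hbV)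
      have h1 := hb.2 _ ⟨s, hs, rfl⟩
      calc s * (x⁻¹ * b * x) = x⁻¹ * (x * s * x⁻¹ * b) * x := by group
        _ = x⁻¹ * b * x * s := by
          rw [show x * s * x⁻¹ * b = b * (x * s * x⁻¹) from h1]; group
    have hc : ∀ g ∈ P, g * (a⁻¹ * w) = (a⁻¹ * w) * g := by
      have hle : P ≤ centralizer ({a⁻¹ * w} : Set G) := by
        refine sup_le (fun j hj' => ?_) ?_
        · rw [mem_centralizer_iff]; rintro _ rfl
          exact hJW hj' _ (mul_mem (inv_mem haW) hw)
        · rintro _ ⟨j, hj', rfl⟩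
          rw [mem_centralizer_iff]; rintro _ rfl
          have e2 : a⁻¹ * w = x * (x⁻¹ * b * x * w') * x⁻¹ := by
            rw [show w = x * (v * w') * x⁻¹ by rw [e]; group,
              show x * (v * w') * x⁻¹ = (x * v * x⁻¹) * (x * w' * x⁻¹) by group, ← eab]
            group
          rw [e2]
          exact ((show Commute (x⁻¹ * b * x * w') j from hJW hj' _ (mul_mem hbW hw')).map
            (MulAut.conj x).toMonoidHom).eq
      exact fun g hg => ((hle hg) _ rfl).symm
    have h1 := hc y hy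
    have h2 : y * a = a * y := (hQV hyQ a ha.1).symm
    calc w * y = a * ((a⁻¹ * w) * y) := by group
      _ = a * y * (a⁻¹ * w) := by rw [← h1]; group
      _ = y * w := by rw [← h2]; group
  · obtain ⟨j, hj, q, hq, rfl⟩ := (Coprime.mem_sup_iff_of_le_normalizer
      (le_top.trans (normalizer_eq_top_iff.mpr PCore.pCore_normal).ge)).mp (hsup.ge hk.1)
    refine mul_mem (mem_sup_left (mem_sup_left hj)) (mem_sup_right ⟨hq, ?_⟩)
    have := mul_mem (inv_mem (hJW hj)) hk.2
    rwa [inv_mul_cancel_left] at this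

end Cfsg.Agent.PFocal
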