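import Cfsg.Agent.Lib.PFocal.BaumannE
import Cfsg.Agent.Lib.PushingUp.SL2Overgroups
import Cfsg.Agent.Lib.Replacement.Constrained
import Cfsg.Agent.Lib.BaumannBlock.Basic
import Cfsg.Agent.Lib.LocalStructure.Basic
import Cfsg.Agent.Lib.PMinFF.Config

/-!
# Finding rank-one subgroups

* `baumann_map_injective`, `not_normal_of_char_baumann`: the Baumann subgroup and its characteristic subgroups
* `borel_le_normalizer_uniP`
* `exists_minimal_over`: a minimal subgroup over a Sylow subgroup `T` of `H` outside `M` is a rank-one group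
-/

set_option autoImplicit false

namespace Cfsg.Agent.PFocal

open Subgroup PushingUp
open scoped commutatorElement MatrixGroups

universe u

section Map

variable {G : Type u} [Group G] {p : ℕ} {Γ : Type u} [Group Γ]

theorem thompson_map_injective {f : G →* Γ} (hf : Function.Injective f) (P : Subgroup G) :
    (thompsonSubgroupOf p P).map f = thompsonSubgroupOf p (P.map f) :=
  (Replacement.thompsonSubgroupOf_map_injOn f fun _ _ hx => hf (hx.trans (map_one f).symm)).symm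

theorem baumann_map_injective {f : G →* Γ} (hf : Function.Injective f) (P : Subgroup G) :
    (baumannSubgroupOf p P).map f = baumannSubgroupOf p (P.map f) := by
  rw [baumannSubgroupOf, baumannSubgroupOf,
    Replacement.centerThompsonOf_map_injOn f (fun _ _ hx => hf (hx.trans (map_one f).symm)),
    ← PGroup.map_omegaOne_of_injective hf, Subgroup.map_inf _ _ _ hf]
  refine le_antisymm (le_inf inf_le_left ?_) (le_inf inf_le_left ?_)
  · rintro y ⟨-, ⟨c, hc, rfl⟩⟩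
    rintro _ ⟨w, hw, rfl⟩
    rw [← map_mul, ← map_mul, hc w hw]
  · rintro y ⟨⟨x, hx, rfl⟩, hy⟩
    refine ⟨x, fun w hw => hf ?_, rfl⟩
    rw [map_mul, map_mul]
    exact hy _ (mem_map_of_mem f hw)

/-- A characteristic subgroup of `B(S)` gives a characteristic subgroup of `S`. -/
theorem not_normal_of_char_baumann {S : Subgroup G}
    (hd : ∀ K : Subgroup ↥S, K ≠ ⊥ → K.Characteristic → ¬ (K.map S.subtype).Normal)
    {T : Subgroup G} (hT : baumannSubgroupOf p S = T) (K : Subgroup ↥T) (hne : K ≠ ⊥)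
    (hK : K.Characteristic) : ¬ (K.map T.subtype).Normal := by
  have hTS : T ≤ S := hT ▸ inf_le_left
  have e : (baumannSubgroupOf p (⊤ : Subgroup ↥S)).map S.subtype = T := by
    rw [baumann_map_injective S.subtype_injective, ← MonoidHom.range_eq_map, range_subtype, hT]
  have hfix : ∀ φ : ↥S ≃* ↥S, (baumannSubgroupOf p (⊤ : Subgroup ↥S)).map φ.toMonoidHom =
      baumannSubgroupOf p (⊤ : Subgroup ↥S) := fun φ => by
    rw [BaumannBlock.baumannSubgroupOf_map_equiv, map_top_of_surjective _ φ.surjective]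
  have hmem : ∀ x : ↥S, x ∈ baumannSubgroupOf p (⊤ : Subgroup ↥S) ↔ (x : G) ∈ T := fun x => by
    rw [← e]
    exact (Subgroup.mem_map_iff_mem S.subtype_injective).symm
  have key : ∀ φ : ↥S ≃* ↥S, ∀ k ∈ K, ∃ k' ∈ K, (k' : G) = φ ⟨(k : G), hTS k.2⟩ := by
    intro φ k hk
    have h1 : ∀ (ψ : ↥S ≃* ↥S) (t : ↥T), ((ψ ⟨(t : G), hTS t.2⟩ : ↥S) : G) ∈ T := fun ψ t =>
      (hmem _).mp ((hfix ψ).le ⟨⟨(t : G), hTS t.2⟩, (hmem _).mpr t.2, rfl⟩)
    let ψ : ↥T ≃* ↥T :=
    { toFun := fun t => ⟨_, h1 φ t⟩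
      invFun := fun t => ⟨_, h1 φ.symm t⟩
      left_inv := fun t => Subtype.ext (by
        show ((φ.symm ⟨((φ ⟨(t : G), hTS t.2⟩ : ↥S) : G), _⟩ : ↥S) : G) = (t : G)
        rw [Subtype.coe_eta, φ.symm_apply_apply])
      right_inv := fun t => Subtype.ext (by
        show ((φ ⟨((φ.symm ⟨(t : G), hTS t.2⟩ : ↥S) : G), _⟩ : ↥S) : G) = (t : G)
        rw [Subtype.coe_eta, φ.apply_symm_apply])
      map_mul' := fun a b => Subtype.ext (by
        show ((φ (⟨(a : G), hTS a.2⟩ * ⟨(b : G), hTS b.2⟩) : ↥S) : G) = _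
        rw [map_mul]
        rfl) }
    exact ⟨ψ k, (characteristic_iff_map_eq.mp hK ψ).le ⟨k, hk, rfl⟩, rfl⟩
  have he : ((K.map T.subtype).subgroupOf S).map S.subtype = K.map T.subtype :=
    map_subgroupOf_eq_of_le ((map_subtype_le _).trans hTS)
  rw [← he]
  refine hd _ ?_ (characteristic_iff_map_le.mpr fun φ => ?_)
  · intro h
    rw [h, Subgroup.map_bot, eq_comm, map_eq_bot_iff_of_injective _ T.subtype_injective] at he
    exact hne he
  · rintro _ ⟨x, ⟨k, hk, hkx⟩, rfl⟩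
    obtain ⟨k', hk', e'⟩ := key φ k hk
    refine ⟨k', hk', e'.trans ?_⟩
    exact congrArg (fun y : ↥S => ((φ y : ↥S) : G)) (Subtype.ext hkx : (⟨(k : G), hTS k.2⟩ : ↥S) = x)

end Map

section Borel

variable {F : Type*} [Field F]

theorem borel_le_normalizer_upperUni : borelSL F ≤ normalizer (NaturalSL2.upperUni F : Set SL(2, F)) := by
  have key : ∀ g ∈ borelSL F, ∀ A ∈ NaturalSL2.upperUni F, g * A * g⁻¹ ∈ NaturalSL2.upperUni F := by
    intro g hg A hA
    obtain ⟨hA0, hA1⟩ := hA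
    have hdA := A.2
    have hdg := g.2
    rw [Matrix.det_fin_two] at hdA hdg
    have hg' : (g : Matrix (Fin 2) (Fin 2) F) 1 0 = 0 := hg
    rw [hA0, hA1] at hdA
    rw [hg'] at hdg
    simp only [one_mul, mul_zero, sub_zero] at hdA hdg
    constructor
    · simp [Matrix.SpecialLinearGroup.coe_mul, Matrix.SpecialLinearGroup.coe_inv, Matrix.adjugate_fin_two,
        Matrix.mul_apply, Fin.sum_univ_two, hA0, hA1, hg', hdA, hdg]
    · simp [Matrix.SpecialLinearGroup.coe_mul, Matrix.SpecialLinearGroup.coe_inv, Matrix.adjugate_fin_two,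
        Matrix.mul_apply, Fin.sum_univ_two, hA1, hg', hdA]
  refine fun g hg => mem_normalizer_iff.mpr fun A => ⟨key g hg A, fun h => ?_⟩
  simpa [mul_assoc] using key g⁻¹ (inv_mem hg) _ h

theorem borel_le_normalizer_uniP :
    (borelSL F).map (proj F) ≤ normalizer (uniP F : Set (Matrix.ProjectiveSpecialLinearGroup (Fin 2) F)) :=
  (map_mono borel_le_normalizer_upperUni).trans (le_normalizer_map _)

end Borel

variable {X : Type u} [Group X] [Finite X] {p : ℕ} [Fact p.Prime]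

local notation "PSL2" F:max => Matrix.ProjectiveSpecialLinearGroup (Fin 2) F

/-- A minimal subgroup over `T` outside `M` is a rank-one group. -/
theorem exists_minimal_over {H K T M R : Subgroup X} {F : Type} [Field F] [Fintype F] {n : ℕ}
    (hF : Fintype.card F = p ^ n) (hH : ¬ H ≤ M) (hTH : T ≤ H) (hTp : IsPGroup p T)
    (hTi : ¬ p ∣ T.relIndex H) (hTM : T ≤ M) (hNT : normalizer (T : Set X) ≤ M) (hKH : K ≤ H)
    (hHK : H ≤ normalizer (K : Set X)) (hKM : K ≤ M) (hRT : R ≤ T)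
    (hHR : H ≤ normalizer (R : Set X)) (hCR : H ⊓ centralizer (R : Set X) ≤ R)
    (θ : ↥H →* PSL2 F) (hθ : Function.Surjective θ) (hker : θ.ker = K.subgroupOf H) :
    ∃ H₁ : Subgroup X, H₁ ≤ H ∧ T ≤ H₁ ∧ ¬ H₁ ≤ M ∧ H ≤ H₁ ⊔ K ∧
      ∃ (S₁ : Sylow p ↥H₁) (M₁ : Subgroup ↥H₁), (S₁ : Subgroup ↥H₁) = T.subgroupOf H₁ ∧
        Hyp p S₁ M₁ ∧ ∃ θ₁ : ↥H₁ →* PSL2 F, Function.Surjective θ₁ ∧
          θ₁.ker = (H₁ ⊓ K).subgroupOf H₁ := by
  obtain ⟨H₁, ⟨hH₁, hT₁, hM₁⟩, hmin⟩ := (Set.toFinite {Y : Subgroup X | Y ≤ H ∧ T ≤ Y ∧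
    ¬ Y ≤ M}).exists_minimal ⟨H, le_rfl, hTH, hH⟩
  have hTi₁ : ¬ p ∣ T.relIndex H₁ := fun h =>
    hTi (h.trans (Dvd.intro _ (relIndex_mul_relIndex _ _ _ hT₁ hH₁)))
  -- `H = H₁ K`
  have hsup : H ≤ H₁ ⊔ K := by
    by_contra hcon
    set Y := H₁ ⊔ K
    have hYH : Y ≤ H := sup_le hH₁ hKH
    set YH := Y.subgroupOf H
    have hne : YH.map θ ≠ ⊤ := fun e => hcon fun h hh => by
      obtain ⟨y, hy, hye⟩ : θ ⟨h, hh⟩ ∈ YH.map θ := e ▸ mem_top _
      have h1 : (y⁻¹ * ⟨h, hh⟩ : ↥H) ∈ θ.ker := by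
        rw [MonoidHom.mem_ker, map_mul, map_inv, hye, inv_mul_cancel]
      rw [hker, mem_subgroupOf] at h1
      have h2 := mul_mem (mem_subgroupOf.mp hy : (y : X) ∈ Y) (mem_sup_right h1 : _ ∈ Y)
      simpa using h2
    set TH : Sylow p ↥H := (hTp.comap_of_injective H.subtype H.subtype_injective :
      IsPGroup p (T.subgroupOf H)).toSylow hTi with hTH'
    obtain ⟨θ', hθ', hker', hTθ⟩ := exists_adapted hF TH θ hθ
    have hne' : YH.map θ' ≠ ⊤ := fun e => hne (by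
      have h1 : YH ⊔ θ'.ker = ⊤ := by
        rw [← comap_map_eq, e, comap_top]
      rw [hker'] at h1
      have h2 := congrArg (Subgroup.map θ) h1
      rwa [Subgroup.map_sup, (Subgroup.map_eq_bot_iff θ.ker).mpr le_rfl, sup_bot_eq,
        map_top_of_surjective θ hθ] at h2)
    have hTY : (TH : Subgroup ↥H) ≤ YH := fun t ht => (mem_sup_left (hT₁ ht) :)
    have hB := le_borel_of_uniP_le (hTθ ▸ map_mono hTY) hne'
    have hn : YH ≤ normalizer (((TH : Subgroup ↥H) ⊔ θ'.ker : Subgroup ↥H) : Set ↥H) := by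
      rw [← comap_map_eq, hTθ]
      refine (map_le_iff_le_comap.mp (hB.trans borel_le_normalizer_uniP)).trans ?_
      exact (comap_normalizer_eq_of_surjective _ hθ').le
    -- Frattini
    refine hM₁ (le_sup_left.trans (show Y ≤ M from ?_))
    set TK := T ⊔ K with hTKdef
    have hTKY : TK ≤ Y := sup_le (hT₁.trans le_sup_left) le_sup_right
    have hYn : Y ≤ normalizer (TK : Set X) := by
      intro y hy
      have h1 := le_normalizer_map H.subtype ⟨⟨y, hYH hy⟩, hn hy, rfl⟩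
      rw [Subgroup.map_sup, hker', hker] at h1
      have e1 : (TH : Subgroup ↥H).map H.subtype = T := by
        show (T.subgroupOf H).map H.subtype = T
        exact map_subgroupOf_eq_of_le hTH
      rwa [e1, map_subgroupOf_eq_of_le hKH] at h1
    have hTKi : ¬ p ∣ T.relIndex TK := fun h => hTi (h.trans (Dvd.intro _ (relIndex_mul_relIndex _ _ _
      (le_sup_left : T ≤ TK) (hTKY.trans hYH))))
    intro y hy
    obtain ⟨k, hk, hle⟩ := PMinFF.exists_cj_le (le_sup_left : T ≤ TK) hTp hTKi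
      (show Subnormal.cj y T ≤ TK from (Subnormal.cj_mono le_sup_left).trans
        (Subnormal.cj_eq_of_mem_normalizer (hYn hy)).le) (hTp.map _)
    rw [show Subnormal.cj k (Subnormal.cj y T) = Subnormal.cj (k * y) T from FFPair.cj_cj k y T] at hle
    have h1 : k * y ∈ normalizer (T : Set X) := Subnormal.mem_normalizer_of_cj_le hle
    have h2 := mul_mem (inv_mem ((sup_le hTM hKM : TK ≤ M) hk)) (hNT h1)
    rwa [inv_mul_cancel_left] at h2
  set S₁ : Sylow p ↥H₁ := (hTp.comap_of_injective H₁.subtype H₁.subtype_injective :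
    IsPGroup p (T.subgroupOf H₁)).toSylow hTi₁
  let θ₁ : ↥H₁ →* PSL2 F := θ.comp (Subgroup.inclusion hH₁)
  have hθ₁ : Function.Surjective θ₁ := fun y => by
    obtain ⟨⟨h, hh⟩, rfl⟩ := hθ y
    obtain ⟨a, ha, k, hk, e⟩ := (Coprime.mem_sup_iff_of_le_normalizer (hH₁.trans hHK)).mp (hsup hh)
    refine ⟨⟨a, ha⟩, ?_⟩
    have hker1 : θ ⟨k, hKH hk⟩ = 1 := by rw [← MonoidHom.mem_ker, hker]; exact hk
    have : (⟨h, hh⟩ : ↥H) = ⟨a, hH₁ ha⟩ * ⟨k, hKH hk⟩ := Subtype.ext e.symm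
    rw [this, map_mul, hker1, mul_one]
    rfl
  have hker₁ : θ₁.ker = (H₁ ⊓ K).subgroupOf H₁ := by
    ext x
    rw [MonoidHom.mem_ker, mem_subgroupOf, mem_inf]
    show θ _ = 1 ↔ _
    rw [← MonoidHom.mem_ker, hker, mem_subgroupOf]
    exact ⟨fun h => ⟨x.2, h⟩, fun h => h.2⟩
  -- characteristic `p`
  have hcent : centralizer (pCore p ↥H₁ : Set ↥H₁) ≤ pCore p ↥H₁ := by
    have hRle : R.subgroupOf H₁ ≤ pCore p ↥H₁ := PCore.le_pCore
      (hN := (normal_subgroupOf_iff_le_normalizer (hRT.trans hT₁)).mpr (hH₁.trans hHR))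
      ((hTp.to_le hRT).comap_of_injective _ H₁.subtype_injective)
    intro x hx
    refine hRle (hCR ⟨hH₁ x.2, fun r hr => ?_⟩)
    exact congrArg Subtype.val (hx ⟨r, hT₁ (hRT hr)⟩ (hRle hr))
  have huniq : ∃! M₁ : Subgroup ↥H₁, IsCoatom M₁ ∧ (S₁ : Subgroup ↥H₁) ≤ M₁ := by
    have hne : M.subgroupOf H₁ ≠ ⊤ := fun e => hM₁ (subgroupOf_eq_top.mp e)
    have hmax : ∀ Y : Subgroup ↥H₁, (S₁ : Subgroup ↥H₁) ≤ Y → Y ≠ ⊤ → Y ≤ M.subgroupOf H₁ := by
      intro Y hY hYne y hy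
      by_contra hyM
      have hYle : Y.map H₁.subtype ≤ H₁ := map_subtype_le _
      have hTY : T ≤ Y.map H₁.subtype := fun t ht => ⟨⟨t, hT₁ ht⟩, hY ht, rfl⟩
      have hnle : ¬ Y.map H₁.subtype ≤ M := fun h => hyM (h (mem_map_of_mem _ hy))
      have h1 := le_antisymm hYle (hmin ⟨hYle.trans hH₁, hTY, hnle⟩ hYle)
      refine hYne (map_injective H₁.subtype_injective ?_)
      rw [h1, ← MonoidHom.range_eq_map, range_subtype]
    refine ⟨M.subgroupOf H₁, ⟨⟨hne, fun Y hY => ?_⟩, fun t ht => hTM ht⟩, fun Y ⟨hY1, hY2⟩ => ?_⟩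
    · by_contra hc
      exact hY.not_ge (hmax Y ((show (S₁ : Subgroup ↥H₁) ≤ M.subgroupOf H₁ from fun t ht => hTM ht).trans
        hY.le) hc)
    · rcases hY1.le_iff.mp (hmax Y hY2 hY1.1) with e | e
      · exact absurd e hne
      · exact e.symm
  obtain ⟨M₁, hM⟩ := exists_hyp S₁ hcent huniq θ₁.ker hF
    ⟨QuotientGroup.quotientKerEquivOfSurjective θ₁ hθ₁⟩
  exact ⟨H₁, hH₁, hT₁, hM₁, hsup, S₁, M₁, rfl, hM, θ₁, hθ₁, hker₁⟩

end Cfsg.Agent.PFocal
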