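import Cfsg.Agent.Lib.PFocal.Quad
import Cfsg.Agent.Lib.PFocal.RankOne
import Cfsg.Agent.Lib.PushingUp.Main

/-!
# No failure of transfer control over a block

* `quad_of_natural`: `p`-elements act quadratically on natural `SL₂`-modules
* `Blk`: what is used of the failure-of-factorisation structure
* `Failure.false_of_blk`
-/

set_option autoImplicit false

namespace Cfsg.Agent.PFocal

open Subgroup PushingUp
open scoped commutatorElement MatrixGroups Matrix

universe u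

section Natural

variable {F : Type} [Field F]

theorem one_sub_mul_one_sub {A B g : SL(2, F)} (hA : g⁻¹ * A * g ∈ NaturalSL2.upperUni F)
    (hB : g⁻¹ * B * g ∈ NaturalSL2.upperUni F) (w : Fin 2 → F) :
    (w - (A : Matrix (Fin 2) (Fin 2) F) *ᵥ w) -
      (B : Matrix (Fin 2) (Fin 2) F) *ᵥ (w - (A : Matrix (Fin 2) (Fin 2) F) *ᵥ w) = 0 := by
  set a := g⁻¹ * A * g
  set b := g⁻¹ * B * g
  obtain ⟨a0, a1⟩ := hA
  obtain ⟨b0, b1⟩ := hB
  have ha := a.2
  have hb := b.2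
  rw [Matrix.det_fin_two, a0, a1] at ha
  rw [Matrix.det_fin_two, b0, b1] at hb
  simp only [one_mul, mul_zero, sub_zero] at ha hb
  have key : ∀ v : Fin 2 → F, (v - (a : Matrix (Fin 2) (Fin 2) F) *ᵥ v) -
      (b : Matrix (Fin 2) (Fin 2) F) *ᵥ (v - (a : Matrix (Fin 2) (Fin 2) F) *ᵥ v) = 0 := by
    intro v
    ext i
    fin_cases i <;> simp [Matrix.vecHead, Matrix.vecTail, a0, a1, b0, b1, ha, hb]
  have eA : A = g * a * g⁻¹ := by simp [a, mul_assoc]
  have eB : B = g * b * g⁻¹ := by simp [b, mul_assoc]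
  obtain ⟨v, rfl⟩ : ∃ v, w = (g : Matrix (Fin 2) (Fin 2) F) *ᵥ v :=
    ⟨((g⁻¹ : SL(2, F)) : Matrix (Fin 2) (Fin 2) F) *ᵥ w, by
      rw [Matrix.mulVec_mulVec, ← Matrix.SpecialLinearGroup.coe_mul, mul_inv_cancel,
        Matrix.SpecialLinearGroup.coe_one, Matrix.one_mulVec]⟩
  have hm : ∀ (c : SL(2, F)) (x : Fin 2 → F), ((g * c * g⁻¹ : SL(2, F)) : Matrix (Fin 2) (Fin 2) F) *ᵥ
      ((g : Matrix (Fin 2) (Fin 2) F) *ᵥ x) =
        (g : Matrix (Fin 2) (Fin 2) F) *ᵥ ((c : Matrix (Fin 2) (Fin 2) F) *ᵥ x) := by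
    intro c x
    rw [Matrix.mulVec_mulVec, Matrix.mulVec_mulVec, ← Matrix.SpecialLinearGroup.coe_mul,
      ← Matrix.SpecialLinearGroup.coe_mul, inv_mul_cancel_right]
  rw [eA, eB, hm, ← Matrix.mulVec_sub, hm, ← Matrix.mulVec_sub, key, Matrix.mulVec_zero]

/-- `p`-elements act quadratically on a natural module. -/
theorem quad_of_natural {G : Type u} [Group G] [Fintype F] {p n : ℕ} [Fact p.Prime]
    (hF : Fintype.card F = p ^ n) {V L : Subgroup G} (h : Cfsg.IsNaturalSL2Module F V L) {u : G}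
    (hu : u ∈ L) (hup : IsPGroup p (zpowers u)) :
    ∀ v ∈ V, ∀ a ∈ zpowers u, ∀ b ∈ zpowers u, ⁅⁅v, a⁆, b⁆ = 1 := by
  obtain ⟨hLV, ρ, ψ, -, -, hact⟩ := h
  obtain ⟨P, hP⟩ := NaturalSL2.exists_sylow_upperUni (F := F) hF
  set Z : Subgroup SL(2, F) := ((zpowers u).subgroupOf L).map ρ
  have hZ : IsPGroup p Z := (hup.comap_of_injective L.subtype L.subtype_injective).map ρ
  obtain ⟨R, hR⟩ := hZ.exists_le_sylow
  obtain ⟨g, hg⟩ := MulAction.exists_smul_eq SL(2, F) P R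
  have hmem : ∀ (a : G) (ha : a ∈ zpowers u) (haL : a ∈ L), g⁻¹ * ρ ⟨a, haL⟩ * g ∈ NaturalSL2.upperUni F := by
    intro a ha haL
    have h1 : ρ ⟨a, haL⟩ ∈ (R : Subgroup SL(2, F)) := hR ⟨⟨a, haL⟩, ha, rfl⟩
    rw [← hg, Sylow.coe_subgroup_smul, hP] at h1
    obtain ⟨y, hy, e⟩ := h1
    rw [← e]
    simpa [mul_assoc] using hy
  intro v hv a ha b hb
  have haL : a ∈ L := zpowers_le.mpr hu ha
  have hbL : b ∈ L := zpowers_le.mpr hu hb
  have hcomm : ∀ (x : G) (hx : x ∈ L) (w : ↥V), ∃ z : ↥V, (z : G) = ⁅(w : G), x⁆ ∧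
      ψ (Additive.ofMul z) = ψ (Additive.ofMul w) -
        (ρ ⟨x, hx⟩ : Matrix (Fin 2) (Fin 2) F) *ᵥ ψ (Additive.ofMul w) := by
    intro x hx w
    obtain ⟨y, hy, he⟩ := hact ⟨x, hx⟩ w
    refine ⟨w * y⁻¹, ?_, ?_⟩
    · rw [Subgroup.coe_mul, Subgroup.coe_inv, hy, commutatorElement_def]
      group
    · rw [ofMul_mul, ofMul_inv, map_add, map_neg, he, sub_eq_add_neg]
  obtain ⟨z, hz, ez⟩ := hcomm a haL ⟨v, hv⟩
  obtain ⟨z', hz', ez'⟩ := hcomm b hbL z
  rw [ez, one_sub_mul_one_sub (hmem a ha haL) (hmem b hb hbL)] at ez'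
  have h1 : z' = 1 := by
    have h2 : ψ (Additive.ofMul z') = ψ (Additive.ofMul 1) := by rw [ez', ofMul_one, map_zero]
    exact Additive.ofMul.injective (ψ.injective h2)
  have h3 : (z : G) = ⁅v, a⁆ := hz
  rw [← h3, ← hz', h1]
  rfl

end Natural

variable {X : Type u} [Group X] [Finite X] {p : ℕ} [Fact p.Prime]

/-- What is used of the structure of a `p`-minimal group with failure of factorisation. -/
structure Blk (S : Sylow p X) (M C N P K H : Subgroup X) (F : Type) [Field F] [Fintype F] : Prop where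
  C_normal : C.Normal
  CM : C ≤ M
  N_normal : N.Normal
  PN : P ≤ N
  NP : N ≤ normalizer (P : Set X)
  CP : C ≤ P
  QC : Cfsg.pCore p X ≤ C
  HM : ¬ H ≤ M
  PH : P ≤ H
  KH : K ≤ H
  HK : H ≤ normalizer (K : Set X)
  KM : K ≤ M
  sylow : ¬ p ∣ ((S : Subgroup X) ⊓ H).relIndex H
  normal : (S : Subgroup X) ≤ normalizer (((S : Subgroup X) ⊓ H : Subgroup X) : Set X)
  JH : thompsonSubgroupOf p (S : Subgroup X) ≤ H
  BH : baumannSubgroupOf p (S : Subgroup X) ≤ H
  cover : P ⊓ (S : Subgroup X) ≤ thompsonSubgroupOf p (S : Subgroup X) ⊔ Cfsg.pCore p X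
  not_le : ¬ P ⊓ (S : Subgroup X) ≤ Cfsg.pCore p X
  fix : K ≤ normalizer (((P ⊓ (S : Subgroup X)) ⊔ C : Subgroup X) : Set X)
  gen : P ≤ closure {x | ∃ h ∈ H, ∃ s ∈ (P ⊓ (S : Subgroup X)) ⊔ C, x = h * s * h⁻¹}
  psl : ∃ θ : ↥H →* Matrix.ProjectiveSpecialLinearGroup (Fin 2) F,
    Function.Surjective θ ∧ θ.ker = K.subgroupOf H

variable {S : Sylow p X} {M U V : Subgroup X}

omit [Finite X] [Fact p.Prime] in
theorem Failure.sup_eq_top (f : Failure S M U V) {Y : Subgroup X} (hY : ¬ Y ≤ M) :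
    Y ⊔ (S : Subgroup X) = ⊤ := by
  by_contra hne
  exact hY (le_sup_left.trans (f.max _ le_sup_right hne))

omit [Finite X] [Fact p.Prime] in
theorem Failure.normal_of_le (f : Failure S M U V) {Y K : Subgroup X} (hY : ¬ Y ≤ M)
    (h1 : Y ≤ normalizer (K : Set X)) (h2 : (S : Subgroup X) ≤ normalizer (K : Set X)) : K.Normal :=
  normalizer_eq_top_iff.mp (top_le_iff.mp ((f.sup_eq_top hY).ge.trans (sup_le h1 h2)))

theorem thompsonSubgroup_ne_bot' {S : Subgroup X} (hS : IsPGroup p S) (h : S ≠ ⊥) :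
    thompsonSubgroup p ↥S ≠ ⊥ := fun e =>
  PGroup.thompsonSubgroupOf_ne_bot
    (hS.card_eq_or_dvd.resolve_left fun hc => h (Subgroup.eq_bot_of_card_eq S hc))
    (by rw [thompsonSubgroupOf, e, Subgroup.map_bot])

set_option maxHeartbeats 800000 in
/-- A block contradicts the failure. -/
theorem Failure.false_of_blk (f : Failure S M U V) (hp : p ≠ 2) {C N P K H : Subgroup X} {F : Type}
    [Field F] [Fintype F] {n : ℕ} (hF : Fintype.card F = p ^ n) (b : Blk S M C N P K H F) : False := by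
  classical
  have := b.C_normal
  have := b.N_normal
  set Q := Cfsg.pCore p X
  set J := thompsonSubgroupOf p (S : Subgroup X)
  set B := baumannSubgroupOf p (S : Subgroup X) with hBdef
  set T := (S : Subgroup X) ⊓ H with hTdef
  have hQS : Q ≤ (S : Subgroup X) := PCore.pCore_le_sylow S
  have hQH : Q ≤ H := b.QC.trans (b.CP.trans b.PH)
  have hQT : Q ≤ T := le_inf hQS hQH
  have hTp : IsPGroup p T := S.2.to_le inf_le_left
  have hJT : J ≤ T := le_inf (PGroup.thompsonSubgroupOf_le _) b.JH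
  have hJ : thompsonSubgroupOf p T = J := PGroup.thompsonSubgroupOf_eq_of_le hJT inf_le_left
  have hBT : baumannSubgroupOf p T = B := by
    rw [hBdef, baumannSubgroupOf, baumannSubgroupOf, centerThompsonOf, centerThompsonOf, hJ]
    refine le_antisymm (inf_le_inf_right _ inf_le_left) (le_inf (le_inf inf_le_left ?_) inf_le_right)
    exact b.BH
  have hTQ : ¬ T ≤ Q := fun h => b.not_le ((le_inf inf_le_right (inf_le_left.trans b.PH)).trans h)
  have hSne : (S : Subgroup X) ≠ ⊥ := fun e => hTQ ((inf_le_left.trans e.le).trans bot_le)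
  have : Nontrivial ↥(S : Subgroup X) := (Subgroup.nontrivial_iff_ne_bot _).mpr hSne
  have hJQ : ¬ J ≤ Q := fun h => b.not_le (b.cover.trans (sup_le h le_rfl))
  have hJB : J ≤ B := BaumannBlock.thompsonSubgroupOf_le_baumann _
  have hNT : normalizer (T : Set X) ≤ M := f.max _ b.normal fun e =>
    hTQ (PCore.le_pCore (hN := normalizer_eq_top_iff.mp e) hTp)
  obtain ⟨θ, hθ, hker⟩ := b.psl
  obtain ⟨H₁, hH₁, hT₁, hM₁, hsup₁, S₁, M₁, hS₁, hyp, θ₁, hθ₁, hker₁⟩ :=
    exists_minimal_over hF b.HM inf_le_right hTp b.sylow (inf_le_left.trans f.SM) hNT b.KH b.HK b.KM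
      hQT (le_top.trans (normalizer_eq_top_iff.mpr PCore.pCore_normal).ge) (inf_le_right.trans f.cent)
      θ hθ hker
  have hmapS₁ : (S₁ : Subgroup ↥H₁).map H₁.subtype = T := by
    rw [hS₁, map_subgroupOf_eq_of_le hT₁]
  have hJmap : (thompsonSubgroupOf p (S₁ : Subgroup ↥H₁)).map H₁.subtype = J := by
    rw [thompson_map_injective H₁.subtype_injective, hmapS₁, hJ]
  -- `C(V) ≤ M₁` and `J ≰ O_p(H₁)`
  have hV₁ : centralizer (vQ p ↥H₁ : Set ↥H₁) ≤ M₁ := by
    by_contra hc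
    set Z := (S : Subgroup X) ⊓ centralizer ((S : Subgroup X) : Set X)
    have hZe : (Subgroup.center ↥(S : Subgroup X)).map (S : Subgroup X).subtype = Z := by
      ext z
      constructor
      · rintro ⟨c, hc, rfl⟩
        exact ⟨c.2, fun s hs => congrArg Subtype.val (Subgroup.mem_center_iff.mp hc ⟨s, hs⟩)⟩
      · rintro ⟨hz, hz'⟩
        exact ⟨⟨z, hz⟩, Subgroup.mem_center_iff.mpr fun s => Subtype.ext (hz' s s.2), rfl⟩
    refine f.hd (Subgroup.center ↥(S : Subgroup X)) ?_ inferInstance ?_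
    · have := S.2.center_nontrivial
      exact (Subgroup.nontrivial_iff_ne_bot _).mp this
    rw [hZe]
    refine f.normal_of_le hM₁ (le_trans ?_ (centralizer_le_normalizer _)) ?_
    · intro g hg z hz
      have hzQ : z ∈ Q := f.cent fun q hq => hz.2 q (hQS hq)
      have h1 := hyp.mem_center_of_not_le hc (show (⟨z, hT₁ (hQT hzQ)⟩ : ↥H₁) ∈
          (S₁ : Subgroup ↥H₁) ⊓ centralizer ((S₁ : Subgroup ↥H₁) : Set ↥H₁) from by
        rw [hS₁]
        exact ⟨hQT hzQ, fun s hs => Subtype.ext (hz.2 s (hs : (s : X) ∈ T).1)⟩)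
      exact (congrArg Subtype.val (Subgroup.mem_center_iff.mp h1 ⟨g, hg⟩)).symm
    · exact LocalStructure.le_normalizer_inf Subgroup.le_normalizer
        (LocalStructure.le_normalizer_centralizer Subgroup.le_normalizer)
  have hJ₁ : ¬ thompsonSubgroupOf p (S₁ : Subgroup ↥H₁) ≤ pCore p ↥H₁ := by
    intro hle
    refine f.hd (thompsonSubgroup p ↥(S : Subgroup X)) (thompsonSubgroup_ne_bot' S.2 hSne)
      PGroup.thompsonSubgroup_characteristic ?_
    show J.Normal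
    refine f.normal_of_le hM₁ ?_ (Subgroup.le_normalizer.trans (PGroup.normalizer_le_normalizer_thompsonOf _))
    have e := PGroup.thompsonSubgroupOf_eq_of_le hle (PCore.pCore_le_sylow S₁)
    have h1 : ⊤ ≤ normalizer (thompsonSubgroupOf p (S₁ : Subgroup ↥H₁) : Set ↥H₁) := by
      rw [← e]
      exact (normalizer_eq_top_iff.mpr PCore.pCore_normal).ge.trans
        (PGroup.normalizer_le_normalizer_thompsonOf _)
    have h2 := (Subgroup.map_mono (f := H₁.subtype) h1).trans (le_normalizer_map _)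
    rwa [hJmap, ← MonoidHom.range_eq_map, range_subtype] at h2
  -- the normal closure of `B`
  set B₁ := baumannSubgroupOf p (S₁ : Subgroup ↥H₁) with hB₁def
  set nc := normalClosure (B₁ : Set ↥H₁)
  obtain ⟨P₁, hP₁⟩ : ∃ P : Sylow p ↥nc, (P : Subgroup ↥nc) = B₁.subgroupOf nc :=
    baumann_sylow hyp hV₁ hJ₁ hB₁def.symm
  set H₂ := nc.map H₁.subtype with hH₂def
  have hBmap : B₁.map H₁.subtype = B := by
    rw [hB₁def, baumann_map_injective H₁.subtype_injective, hmapS₁, hBT]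
  have hB₂ : B ≤ H₂ := hBmap ▸ map_mono le_normalClosure
  have hH₂₁ : H₂ ≤ H₁ := map_subtype_le _
  have hH₁₂ : H₁ ≤ normalizer (H₂ : Set X) := by
    have h1 := (Subgroup.map_mono (f := H₁.subtype)
      (normalizer_eq_top_iff.mpr (normalClosure_normal (s := (B₁ : Set ↥H₁)))).ge).trans (le_normalizer_map _)
    rwa [← MonoidHom.range_eq_map, range_subtype] at h1
  have hBi : ¬ p ∣ B.relIndex H₂ := by
    rw [← hBmap, hH₂def, relIndex_map_map_of_injective _ _ H₁.subtype_injective]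
    have := P₁.not_dvd_index
    rwa [hP₁] at this
  have hBp : IsPGroup p B := S.2.to_le inf_le_left
  have hnc₁ : ¬ nc ≤ M₁ := by
    intro hle'
    refine hJ₁ ((le_inf (PGroup.thompsonSubgroupOf_le _) ?_).trans (hyp.inf_le_pCore (N := nc) hle'))
    exact (BaumannBlock.thompsonSubgroupOf_le_baumann _).trans le_normalClosure
  have hnc : ¬ nc ≤ M.subgroupOf H₁ := by
    intro hle
    have hS₁M : (S₁ : Subgroup ↥H₁) ≤ M.subgroupOf H₁ := by
      rw [hS₁]; exact fun t ht => (inf_le_left.trans f.SM : T ≤ M) ht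
    exact hnc₁ (hle.trans (hyp.uniq _ hS₁M fun e => hM₁ (subgroupOf_eq_top.mp e)))
  have hH₂M : ¬ H₂ ≤ M := fun h => hnc fun x hx => h (mem_map_of_mem _ hx)
  -- `nc` covers `PSL₂`
  have hcover : nc.map θ₁ = ⊤ := by
    obtain ⟨θ', hθ', hker', hSθ⟩ := exists_adapted hF S₁ θ₁ hθ₁
    suffices h : nc.map θ' = ⊤ by
      have h1 : nc ⊔ θ'.ker = ⊤ := by rw [← comap_map_eq, h, comap_top]
      rw [hker'] at h1
      have h2 := congrArg (Subgroup.map θ₁) h1
      rwa [Subgroup.map_sup, (Subgroup.map_eq_bot_iff θ₁.ker).mpr le_rfl, sup_bot_eq,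
        map_top_of_surjective θ₁ hθ₁] at h2
    have hQ₁ : (pCore p ↥H₁).map θ' = ⊥ := by
      have hn : ((pCore p ↥H₁).map θ').Normal := PCore.pCore_normal.map θ' hθ'
      rcases uniP_eq_bot_or (hSθ ▸ map_mono (PCore.pCore_le_sylow S₁))
        (le_top.trans (normalizer_eq_top_iff.mpr hn).ge) with h | h
      · exact h
      · exact absurd (h ▸ hn) not_normal_uniP
    have hB₁S : B₁ ⊔ pCore p ↥H₁ = (S₁ : Subgroup ↥H₁) := by
      refine (hyp.irred _ le_sup_right (sup_le inf_le_left (PCore.pCore_le_sylow S₁)) ?_).resolve_left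
        fun e => hJ₁ ((BaumannBlock.thompsonSubgroupOf_le_baumann _).trans (le_sup_left.trans e.le))
      exact LocalStructure.le_normalizer_sup (BaumannBlock.normalizer_le_normalizer_baumann _)
        (le_top.trans (normalizer_eq_top_iff.mpr PCore.pCore_normal).ge)
    have hS₁nc : (S₁ : Subgroup ↥H₁).map θ' ≤ nc.map θ' := by
      rw [← hB₁S, Subgroup.map_sup, hQ₁, sup_bot_eq]
      exact map_mono le_normalClosure
    have htop : nc ⊔ (S₁ : Subgroup ↥H₁) = ⊤ := by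
      by_contra hne
      have h5 : nc ≤ M₁ := le_sup_left.trans (hyp.uniq _ le_sup_right hne)
      exact hnc₁ h5
    have h := congrArg (Subgroup.map θ') htop
    rw [Subgroup.map_sup, sup_eq_left.mpr hS₁nc, map_top_of_surjective θ' hθ'] at h
    exact h
  let θ₂ : ↥H₂ →* Matrix.ProjectiveSpecialLinearGroup (Fin 2) F := θ₁.comp (Subgroup.inclusion hH₂₁)
  have hθ₂ : Function.Surjective θ₂ := fun y => by
    obtain ⟨x, hx, rfl⟩ : y ∈ nc.map θ₁ := hcover ▸ mem_top y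
    exact ⟨⟨x, x, hx, rfl⟩, rfl⟩
  have hker₂ : θ₂.ker = (H₂ ⊓ K).subgroupOf H₂ := by
    ext x
    rw [MonoidHom.mem_ker, mem_subgroupOf, mem_inf]
    show θ₁ _ = 1 ↔ _
    rw [← MonoidHom.mem_ker, hker₁, mem_subgroupOf, mem_inf]
    exact ⟨fun h => ⟨x.2, h.2⟩, fun h => ⟨hH₂₁ h.1, h.2⟩⟩
  have hH₁H₂ : H₁ ≤ H₂ ⊔ K := fun h hh => by
    obtain ⟨y, hy⟩ := hθ₂ (θ₁ ⟨h, hh⟩)
    have h1 : (Subgroup.inclusion hH₂₁ y)⁻¹ * ⟨h, hh⟩ ∈ θ₁.ker := by
      rw [MonoidHom.mem_ker, map_mul, map_inv, show θ₁ (Subgroup.inclusion hH₂₁ y) = θ₂ y from rfl, hy,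
        inv_mul_cancel]
    rw [hker₁, mem_subgroupOf, mem_inf] at h1
    have h2 := mul_mem (mem_sup_left y.2 : (y : X) ∈ H₂ ⊔ K) (mem_sup_right h1.2)
    simpa using h2
  have hBn : normalizer (B : Set X) ≤ M := by
    refine f.max _ (Subgroup.le_normalizer.trans (BaumannBlock.normalizer_le_normalizer_baumann _))
      fun e => hJQ (hJB.trans (PCore.le_pCore (hN := normalizer_eq_top_iff.mp e) hBp))
  -- the constraint for `H₂`
  set R₂ := pCoreOf p H₂
  have hR₂B : R₂ ≤ B := by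
    set SB : Sylow p ↥H₂ := (hBp.comap_of_injective H₂.subtype H₂.subtype_injective :
      IsPGroup p (B.subgroupOf H₂)).toSylow hBi
    intro r hr
    obtain ⟨r', hr', rfl⟩ := hr
    exact PCore.pCore_le_sylow SB hr'
  have hCR₂ : H₂ ⊓ centralizer (R₂ : Set X) ≤ R₂ := by
    refine LocalStructure.le_pCoreOf inf_le_left (LocalStructure.le_normalizer_inf Subgroup.le_normalizer
      (LocalStructure.le_normalizer_centralizer (LocalStructure.le_normalizer_pCoreOf p H₂)))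
      (isPGroup_of_coprime fun x hx hxp => ?_)
    set R₁ := pCoreOf p H₁
    have hfix : ∀ r ∈ R₁, x * r = r * x := by
      intro r hr
      have hc : x * r * x⁻¹ * r⁻¹ ∈ R₂ := by
        have h1 : x * r * x⁻¹ * r⁻¹ ∈ H₂ := by
          rw [show x * r * x⁻¹ * r⁻¹ = x * (r * x⁻¹ * r⁻¹) by group]
          exact mul_mem hx.1 ((mem_normalizer_iff.mp (hH₁₂ (LocalStructure.pCoreOf_le p H₁ hr)) _).mp
            (inv_mem hx.1))
        have h2 : x * r * x⁻¹ * r⁻¹ ∈ R₁ :=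
          mul_mem ((mem_normalizer_iff.mp (LocalStructure.le_normalizer_pCoreOf p H₁ (hH₂₁ hx.1)) r).mp hr)
            (inv_mem hr)
        exact LocalStructure.pCoreOf_inf_le hH₂₁ (mem_inf.mpr ⟨h2, h1⟩)
      obtain ⟨k, hk⟩ := IsPGroup.iff_orderOf.mp (LocalStructure.isPGroup_pCoreOf p H₂) ⟨_, hc⟩
      rw [Subgroup.orderOf_mk] at hk
      exact commute_of_translate' hxp (k := k) (by rw [← hk]; exact pow_orderOf_eq_one _)
        (by group) ((hx.2 _ hc).symm)
    have h1 : (⟨x, hH₂₁ hx.1⟩ : ↥H₁) ∈ centralizer (pCore p ↥H₁ : Set ↥H₁) := fun r hr =>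
      Subtype.ext (hfix r ⟨r, hr, rfl⟩).symm
    obtain ⟨k, hk⟩ := IsPGroup.iff_orderOf.mp PCore.isPGroup_pCore ⟨_, hyp.cent h1⟩
    rw [Subgroup.orderOf_mk, Subgroup.orderOf_mk] at hk
    exact orderOf_eq_one_iff.mp (Nat.Coprime.eq_one_of_dvd (hxp.pow_right k) hk.dvd)
  obtain ⟨H₃, hH₃, hB₃, hM₃, hsup₃, S₃, M₃, hS₃, hyp₃, θ₃, hθ₃, hker₃⟩ :=
    exists_minimal_over hF hH₂M hB₂ hBp hBi (inf_le_left.trans f.SM) hBn inf_le_left
      (LocalStructure.le_normalizer_inf Subgroup.le_normalizer ((hH₂₁.trans hH₁).trans b.HK))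
      (inf_le_right.trans b.KM) hR₂B (LocalStructure.le_normalizer_pCoreOf p H₂) hCR₂ θ₂ hθ₂ hker₂
  -- no characteristic subgroup of `S₃` is normal in `H₃`
  have hd₃ : ∀ T' : Subgroup ↥(S₃ : Subgroup ↥H₃), T' ≠ ⊥ → T'.Characteristic →
      ¬ (T'.map (S₃ : Subgroup ↥H₃).subtype).Normal := by
    intro T' hne hchar hn
    have e₀ : (S₃ : Subgroup ↥H₃).map H₃.subtype = B := by rw [hS₃, map_subgroupOf_eq_of_le hB₃]
    let e : ↥(S₃ : Subgroup ↥H₃) ≃* ↥B :=
      ((S₃ : Subgroup ↥H₃).equivMapOfInjective H₃.subtype H₃.subtype_injective).trans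
        (MulEquiv.subgroupCongr e₀)
    have hce : (T'.map e.toMonoidHom).Characteristic := characteristic_iff_map_eq.mpr fun φ => by
      have h1 := characteristic_iff_map_eq.mp hchar ((e.trans φ).trans e.symm)
      conv_rhs => rw [← h1, map_map]
      rw [map_map]
      congr 1
      ext x
      simp
    have eq1 : (T'.map e.toMonoidHom).map B.subtype =
        (T'.map (S₃ : Subgroup ↥H₃).subtype).map H₃.subtype := by
      rw [map_map, map_map]
      rfl
    refine not_normal_of_char_baumann f.hd hBdef.symm (T'.map e.toMonoidHom)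
      (fun h => hne ((map_eq_bot_iff_of_injective _ e.injective).mp h)) hce ?_
    refine f.normal_of_le hM₃ ?_ ?_
    · rw [eq1]
      have h1 := (Subgroup.map_mono (f := H₃.subtype) (normalizer_eq_top_iff.mpr hn).ge).trans
        (le_normalizer_map _)
      rwa [← MonoidHom.range_eq_map, range_subtype] at h1
    · -- `S` normalises `B`
      intro s hs
      refine PGroup.mem_normalizer_of_map_conj_eq ?_
      have hsB : s ∈ normalizer (B : Set X) :=
        BaumannBlock.normalizer_le_normalizer_baumann _ (Subgroup.le_normalizer hs)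
      have h1 := characteristic_iff_map_eq.mp hce (B.normalizerMonoidHom ⟨s, hsB⟩)
      conv_rhs => rw [← h1]
      simp only [map_map]
      congr 1
  -- the quadratic element
  obtain ⟨F', _, _, hcard', -, -⟩ := exists_layer_V hyp₃ hd₃
  obtain ⟨x, hx, hxQ⟩ := SetLike.not_le_iff_exists.mp b.not_le
  obtain ⟨j, hj, q, hq, rfl⟩ := (Coprime.mem_sup_iff_of_le_normalizer
    (le_top.trans (normalizer_eq_top_iff.mpr PCore.pCore_normal).ge)).mp (b.cover hx)
  have hjQ : j ∉ Q := fun h => hxQ (mul_mem h hq)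
  have hjP : j ∈ P := by
    have := mul_mem (mem_inf.mp hx).1 (inv_mem ((b.QC.trans b.CP) hq : q ∈ P))
    rwa [mul_inv_cancel_right] at this
  have hjH₃ : j ∈ H₃ := hB₃ (hJB hj)
  have hS₀ : (P ⊓ (S : Subgroup X)) ⊔ C ≤ H₃ ⊔ C :=
    sup_le (b.cover.trans (sup_le ((hJB.trans hB₃).trans le_sup_left) (b.QC.trans le_sup_right)))
      le_sup_right
  have hPH₃ : P ≤ H₃ ⊔ C := by
    refine b.gen.trans ((closure_le _).mpr ?_)
    rintro _ ⟨h, hh, s, hs, rfl⟩
    have hh' : h ∈ H₃ ⊔ K := (hsup₁.trans (sup_le (hH₁H₂.trans (sup_le (hsup₃.trans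
      (sup_le_sup_left inf_le_right _)) le_sup_right)) le_sup_right)) hh
    obtain ⟨y, hy, k, hk, rfl⟩ := (Coprime.mem_sup_iff_of_le_normalizer
      (((hH₃.trans hH₂₁).trans hH₁).trans b.HK)).mp hh'
    rw [SetLike.mem_coe, show y * k * s * (y * k)⁻¹ = y * (k * s * k⁻¹) * y⁻¹ by group]
    exact mul_mem (mul_mem (mem_sup_left hy) (hS₀ ((mem_normalizer_iff.mp (b.fix hk) s).mp hs)))
      (inv_mem (mem_sup_left hy))
  refine f.false_of_quadratic hp (C := C) (N := N) (P := P) (H := H₃) (R := pCoreOf p H₃) b.CM b.PN b.NP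
    hPH₃ (LocalStructure.le_normalizer_pCoreOf p H₃) ?_ (PGroup.thompsonSubgroupOf_le _ hj) hjQ hjP ?_
  · refine commutator_le.mpr fun w hw h hh => ?_
    have hwQ : w ∈ Q := f.le_pCore hw
    have h1 : ⁅w, h⁆ ∈ H₂ := by
      rw [commutatorElement_def]
      exact mul_mem ((mem_normalizer_iff.mp (hH₁₂ (hT₁ (hQT hwQ))) h).mp (hH₃ hh)) (inv_mem (hH₃ hh))
    have h2 : ⁅w, h⁆ ∈ Q :=
      Subgroup.commutator_le_left Q ⊤ (commutator_mem_commutator hwQ (mem_top h))
    have h3 : ⁅w, h⁆ ∈ R₂ := by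
      refine LocalStructure.le_pCoreOf (N := Q ⊓ H₂) inf_le_right (LocalStructure.le_normalizer_inf
        (le_top.trans (normalizer_eq_top_iff.mpr PCore.pCore_normal).ge) Subgroup.le_normalizer)
        (PCore.isPGroup_pCore.to_le inf_le_left) ⟨h2, h1⟩
    exact LocalStructure.pCoreOf_inf_le hH₃ ⟨h3, hB₃ (hR₂B h3)⟩
  intro A A' hHA hHA' hlt hAR hmin m hm a ha c hc
  have hA₃ : A ≤ H₃ := hAR.trans (LocalStructure.pCoreOf_le p H₃)
  have hA'₃ : A' ≤ H₃ := hlt.le.trans hA₃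
  have : (A'.subgroupOf H₃).Normal := (normal_subgroupOf_iff_le_normalizer hA'₃).mpr hHA'
  have ha₃ : a ∈ H₃ := zpowers_le.mpr hjH₃ ha
  have hc₃ : c ∈ H₃ := zpowers_le.mpr hjH₃ hc
  have hch : Cfsg.IsChiefFactor (A.subgroupOf H₃) (A'.subgroupOf H₃) := by
    refine ⟨?_, (normal_subgroupOf_iff_le_normalizer hA₃).mpr hHA, inferInstance,
      fun L hL hL1 hL2 => ?_⟩
    · refine lt_of_le_of_ne (fun x hx => hlt.le hx) fun e => hlt.ne ?_
      have := congrArg (Subgroup.map H₃.subtype) e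
      rwa [map_subgroupOf_eq_of_le hA'₃, map_subgroupOf_eq_of_le hA₃] at this
    · have hn : H₃ ≤ normalizer ((L.map H₃.subtype : Subgroup X) : Set X) := by
        have h1 := (Subgroup.map_mono (f := H₃.subtype) (normalizer_eq_top_iff.mpr hL).ge).trans
          (le_normalizer_map _)
        rwa [← MonoidHom.range_eq_map, range_subtype] at h1
      rcases hmin (L.map H₃.subtype) hn (by rw [← map_subgroupOf_eq_of_le hA'₃]; exact map_mono hL1)
        (by rw [← map_subgroupOf_eq_of_le hA₃]; exact map_mono hL2) with e | e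
      · exact Or.inl (map_injective H₃.subtype_injective (by rw [e, map_subgroupOf_eq_of_le hA'₃]))
      · exact Or.inr (map_injective H₃.subtype_injective (by rw [e, map_subgroupOf_eq_of_le hA₃]))
  by_cases hnc₃ : ⁅A.subgroupOf H₃, (⊤ : Subgroup ↥H₃)⁆ ≤ A'.subgroupOf H₃
  · have h1 : ⁅m, a⁆ ∈ A' :=
      hnc₃ (commutator_mem_commutator (show (⟨m, hA₃ hm⟩ : ↥H₃) ∈ A.subgroupOf H₃ from hm)
        (mem_top (⟨a, ha₃⟩ : ↥H₃)))
    rw [commutatorElement_def ⁅m, a⁆ c,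
      show ⁅m, a⁆ * c * ⁅m, a⁆⁻¹ * c⁻¹ = ⁅m, a⁆ * (c * ⁅m, a⁆⁻¹ * c⁻¹) by group]
    exact mul_mem h1 ((mem_normalizer_iff.mp (hHA' hc₃) _).mp (inv_mem h1))
  · have hAR' : A.subgroupOf H₃ ≤ pCore p ↥H₃ := by
      rw [← LocalStructure.subgroupOf_pCoreOf p H₃]
      exact fun x hx => hAR hx
    have hnat := natural_chief hyp₃ hd₃ hcard' hAR' hch hnc₃
    obtain ⟨n', hn'⟩ : ∃ n', Fintype.card F' = p ^ n' := by
      obtain ⟨i, hi⟩ := IsPGroup.iff_card.mp S₃.2
      have hd' : Fintype.card F' ∣ p ^ i := hi ▸ Dvd.intro _ hcard'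
      obtain ⟨k, -, hk⟩ := (Nat.dvd_prime_pow Fact.out).mp hd'
      exact ⟨k, hk⟩
    set π := QuotientGroup.mk' (A'.subgroupOf H₃)
    have hju : IsPGroup p (zpowers (π ⟨j, hjH₃⟩)) := by
      rw [← MonoidHom.map_zpowers]
      refine IsPGroup.map ?_ π
      refine (S.2.to_le (zpowers_le.mpr (PGroup.thompsonSubgroupOf_le _ hj))).comap_of_injective
        H₃.subtype H₃.subtype_injective |>.to_le ?_
      rw [zpowers_le]
      exact mem_zpowers j
    have hz : ∀ (g : X) (hg : g ∈ H₃), g ∈ zpowers j → π ⟨g, hg⟩ ∈ zpowers (π ⟨j, hjH₃⟩) := by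
      rintro _ hg ⟨i, rfl⟩
      exact ⟨i, (map_zpow π ⟨j, hjH₃⟩ i).symm⟩
    have hq := quad_of_natural hn' hnat (mem_top _) hju (π ⟨m, hA₃ hm⟩)
      (mem_map_of_mem π (show (⟨m, hA₃ hm⟩ : ↥H₃) ∈ A.subgroupOf H₃ from hm)) _ (hz a ha₃ ha) _
      (hz c hc₃ hc)
    rw [← map_commutatorElement, ← map_commutatorElement] at hq
    have h := (QuotientGroup.eq_one_iff _).mp hq
    exact h

end Cfsg.Agent.PFocal
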