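import Cfsg.Agent.Lib.PFocal.Family
import Cfsg.Agent.Lib.ConjFun.Degree
import Cfsg.Agent.Lib.LocalStructure.Basic
import Cfsg.Agent.Lib.Coprime.Commutator
import Cfsg.Agent.Lib.PGroup.Thompson

/-!
# Quadratic action on a failing chief factor

* `sup_min_normalized`, `semisimple`: a chief factor is generated by the minimal subgroups invariant under a
  subgroup normal in a normal subgroup
* `Failure.false_of_quadratic`: an element that is quadratic on the chief factors of a suitable subgroup inside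
  `O_p` contradicts the failure
-/

set_option autoImplicit false

namespace Cfsg.Agent.PFocal

open Subgroup
open scoped commutatorElement

universe u

variable {X : Type u} [Group X]

/-- Minimal among the subgroups strictly above `V`, inside `U₀`, normalised by `P`. -/
def IsMinInv (V U₀ P Y : Subgroup X) : Prop :=
  V < Y ∧ Y ≤ U₀ ∧ P ≤ normalizer (Y : Set X) ∧
    ∀ Y' : Subgroup X, V < Y' → Y' ≤ Y → P ≤ normalizer (Y' : Set X) → Y' = Y

theorem exists_isMinInv [Finite X] {V U₀ P : Subgroup X} (hlt : V < U₀)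
    (hP : P ≤ normalizer (U₀ : Set X)) : ∃ Y, IsMinInv V U₀ P Y := by
  obtain ⟨Y, ⟨h1, h2, h3⟩, hmin⟩ := (Set.toFinite {Y : Subgroup X | V < Y ∧ Y ≤ U₀ ∧
    P ≤ normalizer (Y : Set X)}).exists_minimal ⟨U₀, hlt, le_rfl, hP⟩
  exact ⟨Y, h1, h2, h3, fun Y' a b c => le_antisymm b (hmin ⟨a, b.trans h2, c⟩ b)⟩

theorem mem_normalizer_map_conj {H P : Subgroup X} {n : X} (hn : n ∈ normalizer (P : Set X))
    (h : P ≤ normalizer (H : Set X)) :
    P ≤ normalizer ((H.map (MulAut.conj n).toMonoidHom : Subgroup X) : Set X) := by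
  intro x hx
  have h1 : n⁻¹ * x * n ∈ P := (mem_normalizer_iff''.mp hn x).mp hx
  have h2 : (MulAut.conj n) (n⁻¹ * x * n) ∈
      normalizer ((H.map (MulAut.conj n).toMonoidHom : Subgroup X) : Set X) :=
    le_normalizer_map _ ⟨_, h h1, rfl⟩
  simpa [MulAut.conj_apply, mul_assoc] using h2

/-- The join of the minimal invariant subgroups is normalised. -/
theorem sup_min_normalized [Finite X] {V U₀ P N : Subgroup X} (hNV : N ≤ normalizer (V : Set X))
    (hNU : N ≤ normalizer (U₀ : Set X)) (hNP : N ≤ normalizer (P : Set X)) :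
    N ≤ normalizer ((V ⊔ sSup {Y | IsMinInv V U₀ P Y} : Subgroup X) : Set X) := by
  intro n hn
  refine PGroup.mem_normalizer_of_map_conj_eq (eq_of_le_of_card_ge ?_
    (card_map_of_injective (MulAut.conj n).injective).ge)
  rw [Subgroup.map_sup, PGroup.map_conj_eq_of_mem_normalizer (hNV hn)]
  refine sup_le le_sup_left ?_
  rw [map_le_iff_le_comap]
  refine sSup_le fun Y ⟨h1, h2, h3, h4⟩ => ?_
  rw [← map_le_iff_le_comap]
  refine le_trans (le_sSup ?_) le_sup_right
  have e : ∀ A : Subgroup X, (A.map (MulAut.conj n).toMonoidHom).map (MulAut.conj n⁻¹).toMonoidHom = A := by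
    intro A
    rw [map_map]
    convert Subgroup.map_id A using 2
    ext x
    simp [mul_assoc]
  refine ⟨?_, ?_, mem_normalizer_map_conj (hNP hn) h3, fun Y' a b c => ?_⟩
  · rw [← PGroup.map_conj_eq_of_mem_normalizer (hNV hn)]
    exact (map_lt_map_iff_of_injective (MulAut.conj n).injective).mpr h1
  · rw [← PGroup.map_conj_eq_of_mem_normalizer (hNU hn)]
    exact map_mono h2
  · have h5 := h4 (Y'.map (MulAut.conj n⁻¹).toMonoidHom)
      (by
        rw [← PGroup.map_conj_eq_of_mem_normalizer (hNV (inv_mem hn))]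
        exact (map_lt_map_iff_of_injective (MulAut.conj n⁻¹).injective).mpr a)
      (by
        have := map_mono (f := (MulAut.conj n⁻¹).toMonoidHom) b
        rwa [e] at this)
      (mem_normalizer_map_conj (inv_mem (hNP hn)) c)
    have h6 := congrArg (Subgroup.map (MulAut.conj n).toMonoidHom) h5
    rwa [map_map, show (MulAut.conj n).toMonoidHom.comp (MulAut.conj n⁻¹).toMonoidHom = MonoidHom.id X by
      ext x; simp [mul_assoc], Subgroup.map_id] at h6

/-- A chief factor is generated by the minimal subgroups invariant under `P ⊴ N ⊴ X`. -/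
theorem semisimple [Finite X] {U V N P L : Subgroup X} (hch : Cfsg.IsChiefFactor U V) [N.Normal]
    (hP : N ≤ normalizer (P : Set X)) (hPN : P ≤ N) (hVL : V ≤ L)
    (h : ∀ Y, IsMinInv V U P Y → Y ≤ L) : U ≤ L := by
  have := hch.2.1
  have := hch.2.2.1
  have hnU : ∀ H : Subgroup X, H ≤ normalizer (U : Set X) := fun H =>
    le_top.trans (normalizer_eq_top_iff.mpr hch.2.1).ge
  have hnV : ∀ H : Subgroup X, H ≤ normalizer (V : Set X) := fun H =>
    le_top.trans (normalizer_eq_top_iff.mpr hch.2.2.1).ge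
  -- all of `U` is generated by minimal `N`-invariant subgroups
  have hN : (V ⊔ sSup {Y | IsMinInv V U N Y}) = U := by
    have hn : (V ⊔ sSup {Y | IsMinInv V U N Y}).Normal := normalizer_eq_top_iff.mp
      (top_le_iff.mp (sup_min_normalized (hnV ⊤) (hnU ⊤) (normalizer_eq_top_iff.mpr inferInstance).ge))
    refine (hch.2.2.2 _ hn le_sup_left (sup_le hch.1.le (sSup_le fun Y hY => hY.2.1))).resolve_left
      fun e => ?_
    obtain ⟨Y, hY⟩ := exists_isMinInv hch.1 (hnU N)
    have h1 : Y ≤ sSup {Y | IsMinInv V U N Y} := le_sSup hY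
    exact hY.1.not_ge ((h1.trans le_sup_right).trans e.le)
  rw [← hN]
  refine sup_le hVL (sSup_le fun Y₀ hY₀ => ?_)
  obtain ⟨hlt, hYU, hNY, hmin⟩ := hY₀
  have hsup : (V ⊔ sSup {Y | IsMinInv V Y₀ P Y}) = Y₀ := by
    refine hmin _ ?_ (sup_le hlt.le (sSup_le fun Y hY => hY.2.1))
      (sup_min_normalized (hnV N) hNY hP)
    obtain ⟨Y, hY⟩ := exists_isMinInv hlt (hPN.trans hNY)
    have h1 : Y ≤ sSup {Y | IsMinInv V Y₀ P Y} := le_sSup hY
    exact hY.1.trans_le (h1.trans le_sup_right)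
  rw [← hsup]
  exact sup_le hVL (sSup_le fun Y ⟨h1, h2, h3, h4⟩ => h Y ⟨h1, h2.trans hYU, h3, h4⟩)

variable [Finite X] {p : ℕ} [Fact p.Prime] {S : Sylow p X} {M U V : Subgroup X}

/-- Refuting a failure by an element acting quadratically on the chief factors of a subgroup `H`. -/
theorem Failure.false_of_quadratic (f : Failure S M U V) (hp : p ≠ 2) {C N P H R : Subgroup X}
    [C.Normal] (hCM : C ≤ M) [N.Normal] (hPN : P ≤ N) (hNP : N ≤ normalizer (P : Set X))
    (hPH : P ≤ H ⊔ C) (hHR : H ≤ normalizer (R : Set X)) (hUH : ⁅U, H⁆ ≤ R)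
    {u : X} (huS : u ∈ (S : Subgroup X)) (huQ : u ∉ Cfsg.pCore p X) (huP : u ∈ P)
    (hquad : ∀ A B : Subgroup X, H ≤ normalizer (A : Set X) → H ≤ normalizer (B : Set X) → B < A →
      A ≤ R → (∀ K : Subgroup X, H ≤ normalizer (K : Set X) → B ≤ K → K ≤ A → K = B ∨ K = A) →
      ∀ n ∈ A, ∀ a ∈ zpowers u, ∀ b ∈ zpowers u, ⁅⁅n, a⁆, b⁆ ∈ B) : False := by
  have hch := f.chief
  have := hch.2.1
  have := hch.2.2.1
  set π := QuotientGroup.mk' V with hπ
  have hmem : ∀ x : X, π x = 1 ↔ x ∈ V := fun x => QuotientGroup.eq_one_iff x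
  have hQM : Cfsg.pCore p X ≤ M := (PCore.pCore_le_sylow S).trans f.SM
  have hUU : ⁅U, U⁆ ≤ V :=
    (commutator_mono le_rfl f.le_pCore).trans (f.cent_factor _ PCore.pCore_normal hQM)
  have hUC : ⁅U, C⁆ ≤ V := f.cent_factor C inferInstance hCM
  have hnU : ∀ K : Subgroup X, K ≤ normalizer (U : Set X) := fun K =>
    le_top.trans (normalizer_eq_top_iff.mpr hch.2.1).ge
  have hnV : ∀ K : Subgroup X, K ≤ normalizer (V : Set X) := fun K =>
    le_top.trans (normalizer_eq_top_iff.mpr hch.2.2.1).ge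
  refine f.no_engel u huS huQ ?_
  refine (ConjFun.iterCommutator_le_of_le (show 2 ≤ p - 1 by
    have := (Fact.out (p := p.Prime)).two_le; omega) ?_)
  -- the elements killed by one, and by two steps
  let L₂ : Subgroup X := U ⊓ (centralizer (((zpowers u).map π : Subgroup (X ⧸ V)) : Set (X ⧸ V))).comap π
  have hL₂ : ∀ w ∈ U, (∀ b ∈ zpowers u, ⁅w, b⁆ ∈ V) → w ∈ L₂ := by
    intro w hw hb
    refine ⟨hw, ?_⟩
    rintro _ ⟨b, hb', rfl⟩
    have h1 := (hmem _).mpr (hb b hb')
    rw [map_commutatorElement, commutatorElement_eq_one_iff_mul_comm] at h1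
    exact h1.symm
  have hL₂' : ∀ w ∈ L₂, ∀ b ∈ zpowers u, ⁅w, b⁆ ∈ V := by
    intro w hw b hb
    refine (hmem _).mp ?_
    rw [map_commutatorElement, commutatorElement_eq_one_iff_mul_comm]
    exact (hw.2 _ (mem_map_of_mem π hb)).symm
  have hconjU : ∀ y ∈ U, ∀ w ∈ L₂, y * w * y⁻¹ ∈ L₂ := by
    intro y hy w hw
    have h1 : ⁅y, w⁆ ∈ V := hUU (commutator_mem_commutator hy hw.1)
    refine ⟨hch.2.1.conj_mem w hw.1 y, ?_⟩
    show π (y * w * y⁻¹) ∈ centralizer _
    have h2 : π (y * w * y⁻¹) = π w := by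
      rw [show y * w * y⁻¹ = ⁅y, w⁆ * w by rw [commutatorElement_def]; group, map_mul,
        (hmem _).mpr h1, one_mul]
    rw [h2]
    exact hw.2
  let L₁ : Subgroup X :=
    { carrier := {y | y ∈ U ∧ ∀ a ∈ zpowers u, ⁅y, a⁆ ∈ L₂}
      one_mem' := ⟨one_mem _, fun a _ => by rw [commutatorElement_one_left]; exact one_mem _⟩
      mul_mem' := fun {x y} hx hy => ⟨mul_mem hx.1 hy.1, fun a ha => by
        rw [show ⁅x * y, a⁆ = x * ⁅y, a⁆ * x⁻¹ * ⁅x, a⁆ by simp only [commutatorElement_def]; group]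
        exact mul_mem (hconjU x hx.1 _ (hy.2 a ha)) (hx.2 a ha)⟩
      inv_mem' := fun {x} hx => ⟨inv_mem hx.1, fun a ha => by
        rw [show ⁅x⁻¹, a⁆ = x⁻¹ * ⁅x, a⁆⁻¹ * x⁻¹⁻¹ by simp only [commutatorElement_def]; group]
        exact hconjU _ (inv_mem hx.1) _ (inv_mem (hx.2 a ha))⟩ }
  have hUL : U ≤ L₁ := by
    refine semisimple hch hNP hPN (fun v hv => ⟨hch.1.le hv, fun a _ => ?_⟩) fun Y hY => ?_
    · refine hL₂ _ (hch.1.le ?_) fun b _ => ?_
      · exact Subgroup.commutator_le_left V ⊤ (commutator_mem_commutator hv (mem_top a))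
      · exact Subgroup.commutator_le_left V ⊤
          (commutator_mem_commutator (Subgroup.commutator_le_left V ⊤
            (commutator_mem_commutator hv (mem_top a))) (mem_top b))
    obtain ⟨hVY, hYU, hPY, hmin⟩ := hY
    by_cases htriv : ⁅Y, P⁆ ≤ V
    · intro y hy
      refine ⟨hYU hy, fun a ha => ?_⟩
      have h1 := htriv (commutator_mem_commutator hy (zpowers_le.mpr huP ha))
      exact hL₂ _ (hch.1.le h1) fun b _ =>
        Subgroup.commutator_le_left V ⊤ (commutator_mem_commutator h1 (mem_top b))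
    -- `Y ≤ (U ∩ R) V`
    have hYP : ⁅Y, P⁆ ≤ Y := Coprime.commutator_le_left_of_le_normalizer hPY
    have hYeq : ⁅Y, P⁆ ⊔ V = Y := hmin _ (lt_of_le_of_ne le_sup_right
        fun e => htriv (le_sup_left.trans e.ge)) (sup_le hYP hVY.le)
      (LocalStructure.le_normalizer_sup (LocalStructure.le_normalizer_commutator hPY Subgroup.le_normalizer)
        (hnV P))
    have hYR : Y ≤ (U ⊓ R) ⊔ V := by
      rw [← hYeq]
      refine sup_le (commutator_le.mpr fun y hy g hg => ?_) le_sup_right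
      obtain ⟨h, hh, c, hc, rfl⟩ := mem_sup_of_normal_right.mp (hPH hg)
      have hy' := hYU hy
      rw [show ⁅y, h * c⁆ = ⁅y, h⁆ * (h * ⁅y, c⁆ * h⁻¹) by simp only [commutatorElement_def]; group]
      exact mul_mem (mem_sup_left ⟨Subgroup.commutator_le_left U ⊤
        (commutator_mem_commutator hy' (mem_top h)), hUH (commutator_mem_commutator hy' hh)⟩)
        (mem_sup_right (hch.2.2.1.conj_mem _ (hUC (commutator_mem_commutator hy' hc)) h))
    -- a minimal `H`-invariant cover of `Y`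
    obtain ⟨A, ⟨hAR, hHA, hYA⟩, hAmin⟩ := (Set.toFinite {A : Subgroup X | A ≤ U ⊓ R ∧
      H ≤ normalizer (A : Set X) ∧ Y ≤ A ⊔ V}).exists_minimal
      ⟨U ⊓ R, le_rfl, LocalStructure.le_normalizer_inf (hnU H) hHR, hYR⟩
    have hA1 : A ≠ ⊥ := fun e => hVY.not_ge (hYA.trans (by rw [e, bot_sup_eq]))
    obtain ⟨B, ⟨hBA, hHB⟩, hBmax⟩ := (Set.toFinite {B : Subgroup X | B < A ∧
      H ≤ normalizer (B : Set X)}).exists_maximal
      ⟨⊥, bot_lt_iff_ne_bot.mpr hA1, le_top.trans (normalizer_eq_top_iff.mpr inferInstance).ge⟩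
    have hchief : ∀ K : Subgroup X, H ≤ normalizer (K : Set X) → B ≤ K → K ≤ A → K = B ∨ K = A := by
      intro K hK hBK hKA
      rcases hKA.eq_or_lt with e | hlt
      · exact Or.inr e
      · exact Or.inl (le_antisymm (hBmax ⟨hlt, hK⟩ hBK) hBK)
    have hPB : P ≤ normalizer ((B ⊔ V : Subgroup X) : Set X) := by
      refine hPH.trans (sup_le (LocalStructure.le_normalizer_sup hHB (hnV H)) fun c hc => ?_)
      refine PGroup.mem_normalizer_of_map_conj_eq (eq_of_le_of_card_ge ?_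
        (card_map_of_injective (MulAut.conj c).injective).ge)
      rintro _ ⟨x, hx, rfl⟩
      have hxU : x ∈ U := (sup_le ((hBA.le.trans hAR).trans inf_le_left) hch.1.le) hx
      show c * x * c⁻¹ ∈ B ⊔ V
      rw [show c * x * c⁻¹ = ⁅x, c⁆⁻¹ * x by simp only [commutatorElement_def]; group]
      exact mul_mem (inv_mem (mem_sup_right (hUC (commutator_mem_commutator hxU hc)))) hx
    have hYB : Y ⊓ (B ⊔ V) = V := by
      by_contra hne
      have h1 := hmin _ (lt_of_le_of_ne (le_inf hVY.le le_sup_right) (Ne.symm hne)) inf_le_left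
        (LocalStructure.le_normalizer_inf hPY hPB)
      exact hBA.not_ge (hAmin ⟨hBA.le.trans hAR, hHB, h1 ▸ inf_le_right⟩ hBA.le)
    intro y hy
    refine ⟨hYU hy, fun a ha => hL₂ _ ?_ fun b hb => ?_⟩
    · exact Subgroup.commutator_le_left U ⊤ (commutator_mem_commutator (hYU hy) (mem_top a))
    have h1 : ⁅⁅y, a⁆, b⁆ ∈ Y := Coprime.commutator_le_left_of_le_normalizer hPY
      (commutator_mem_commutator (Coprime.commutator_le_left_of_le_normalizer hPY
        (commutator_mem_commutator hy (zpowers_le.mpr huP ha))) (zpowers_le.mpr huP hb))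
    refine hYB.le ⟨h1, ?_⟩
    obtain ⟨n, hn, v, hv, rfl⟩ := mem_sup_of_normal_right.mp (hYA hy)
    have h2 : π ⁅⁅n * v, a⁆, b⁆ = π ⁅⁅n, a⁆, b⁆ := by
      rw [map_commutatorElement, map_commutatorElement, map_commutatorElement, map_commutatorElement,
        map_mul, (hmem v).mpr hv, mul_one]
    have h3 := hquad A B hHA hHB hBA (hAR.trans inf_le_right) hchief n hn a ha b hb
    have h4 : (⁅⁅n, a⁆, b⁆)⁻¹ * ⁅⁅n * v, a⁆, b⁆ ∈ V :=
      (hmem _).mp (by rw [map_mul, map_inv, h2, inv_mul_cancel])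
    have h5 := mul_mem (mem_sup_left h3 : _ ∈ B ⊔ V) (mem_sup_right h4)
    rwa [mul_inv_cancel_left] at h5
  show ⁅⁅U, zpowers u⁆, zpowers u⁆ ≤ V
  refine commutator_le.mpr fun w hw b hb => hL₂' w ?_ b hb
  exact (commutator_le.mpr fun y hy a ha => (hUL hy).2 a ha : ⁅U, zpowers u⁆ ≤ L₂) hw

end Cfsg.Agent.PFocal
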